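import Groth.Agent.PnDualLib.Hom
import Groth.Agent.PnDualLib.HomExt
import Groth.Agent.InjModLib.ClosedHom
import Groth.Agent.KFlatLib.FlatRes
import Groth.Prelude.Def_ModSite2
import Groth.Prelude.Def_ExtSupp

/-!
# The sheaf of homomorphisms as a functor of its first variable
-/

set_option autoImplicit false
set_option linter.unusedSectionVars false
set_option linter.style.haveILetI false
set_option backward.isDefEq.respectTransparency false
set_option backward.isDefEq.respectTransparency.types false
universe u

open CategoryTheory CategoryTheory.Limits AlgebraicGeometry TopologicalSpace Opposite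
open CohCmpLib (homMod curryMod evMod curryMod_comp hom_homMod_ext)
open PnDualLib (preMap homFun)

noncomputable section

namespace ExtShLib

variable {X : Scheme.{u}}

local notation "TB" => DCoh.tensorBi (X := X)

/-- Uncurrying. -/
abbrev unc {M N P : X.Modules} (g : N ⟶ homMod M P) : ((TB).obj M).obj N ⟶ P :=
  ((TB).obj M).map g ≫ evMod M P

theorem unc_curry {M N P : X.Modules} (φ : ((TB).obj M).obj N ⟶ P) : unc (curryMod φ) = φ := curryMod_comp φ

theorem unc_comp_preMap {A B : X.Modules} (f : A ⟶ B) {T P : X.Modules} (σ : T ⟶ homMod B P) :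
    unc (σ ≫ preMap f P) = ((TB).map f).app T ≫ unc σ := by
  show ((TB).obj A).map (σ ≫ preMap f P) ≫ evMod A P = _
  rw [Functor.map_comp, Category.assoc, preMap, curryMod_comp, ← Category.assoc,
    ((TB).map f).naturality σ, Category.assoc]

theorem unc_comp {M N N' P : X.Modules} (α : N ⟶ N') (g : N' ⟶ homMod M P) :
    unc (α ≫ g) = ((TB).obj M).map α ≫ unc g := by
  show ((TB).obj M).map (α ≫ g) ≫ evMod M P = _
  rw [Functor.map_comp, Category.assoc]

theorem unc_mapR {M N P P' : X.Modules} (g : N ⟶ homMod M P) (φ : P ⟶ P') :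
    unc (g ≫ HomCohLib.mapR M φ) = unc g ≫ φ := by
  show ((TB).obj M).map (g ≫ HomCohLib.mapR M φ) ≫ evMod M P' = _
  rw [Functor.map_comp, Category.assoc, HomCohLib.mapR, curryMod_comp, Category.assoc]

theorem unc_injective {M N P : X.Modules} {g g' : N ⟶ homMod M P} (h : unc g = unc g') : g = g' :=
  hom_homMod_ext h

/-- Precomposition as a natural transformation. -/
def preNat {A B : X.Modules} (f : A ⟶ B) : homFun B ⟶ homFun A where
  app P := preMap f P
  naturality P P' φ := by
    rw [PnDualLib.homFun_map, PnDualLib.homFun_map]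
    refine unc_injective ?_
    rw [unc_comp_preMap, unc_mapR]
    have h1 := unc_mapR (𝟙 (homMod B P)) φ
    rw [Category.id_comp] at h1
    have h2 := unc_comp_preMap f (𝟙 (homMod B P))
    rw [Category.id_comp] at h2
    rw [h1, h2]
    exact (Category.assoc _ _ _).symm.trans (by rfl)

theorem preMap_comp {A B C : X.Modules} (f : A ⟶ B) (g : B ⟶ C) (P : X.Modules) :
    preMap g P ≫ preMap f P = preMap (f ≫ g) P := by
  refine unc_injective ?_
  rw [unc_comp_preMap, ← Category.id_comp (preMap g P), unc_comp_preMap,
    ← Category.id_comp (preMap (f ≫ g) P), unc_comp_preMap, ← Category.assoc, Functor.map_comp, NatTrans.comp_app]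

theorem preMap_zero' (A B P : X.Modules) : preMap (0 : A ⟶ B) P = 0 := by
  refine unc_injective ?_
  rw [← Category.id_comp (preMap (0 : A ⟶ B) P), unc_comp_preMap, Functor.map_zero, zero_app, zero_comp]
  show 0 = ((TB).obj A).map 0 ≫ evMod A P
  rw [Functor.map_zero, zero_comp]

theorem preMap_id (A P : X.Modules) : preMap (𝟙 A) P = 𝟙 (homMod A P) := by
  refine unc_injective ?_
  rw [← Category.id_comp (preMap (𝟙 A) P), unc_comp_preMap, CategoryTheory.Functor.map_id, NatTrans.id_app, Category.id_comp]

theorem mono_preMap {A B : X.Modules} (f : A ⟶ B) [Epi f] (P : X.Modules) : Mono (preMap f P) := by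
  refine ⟨fun {T} a b h => unc_injective ?_⟩
  have h' := congrArg unc h
  rw [unc_comp_preMap, unc_comp_preMap] at h'
  haveI : PreservesColimitsOfSize.{0, 0} ((TB).flip.obj T) :=
    haveI : ((TB).flip.obj T).IsLeftAdjoint := ModSiteLib.hasSheafHom X.sheaf T
    inferInstance
  haveI : Epi (((TB).map f).app T) := inferInstanceAs (Epi (((TB).flip.obj T).map f))
  exact (cancel_epi _).1 h'

theorem epi_preMap {A B : X.Modules} (f : A ⟶ B) [Mono f] (I : X.Modules) [Injective I] :
    Epi (preMap f I) := by
  let H := homMod A I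
  let π : KFlatLib.cover.obj H ⟶ H := (KFlatLib.coverπ (X := X)).app H
  haveI : Epi π := inferInstance
  haveI := InjModLib.mono_tensor_of_isFlat f (KFlatLib.cover.obj H) (KFlatLib.cover_flat H)
  let σ : KFlatLib.cover.obj H ⟶ homMod B I :=
    curryMod (Injective.factorThru (unc π) (((TB).map f).app (KFlatLib.cover.obj H)))
  have hσ : σ ≫ preMap f I = π := unc_injective (by
    rw [unc_comp_preMap, unc_curry, Injective.comp_factorThru])
  haveI : Epi (σ ≫ preMap f I) := by rw [hσ]; infer_instance
  exact epi_of_epi σ (preMap f I)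

/-- A short complex gives one on sheaves of homomorphisms. -/
def preSeq (S : ShortComplex X.Modules) (P : X.Modules) : ShortComplex X.Modules :=
  ShortComplex.mk (preMap S.g P) (preMap S.f P) (by rw [preMap_comp, S.zero, preMap_zero'])

theorem preSeq_exact {S : ShortComplex X.Modules} (hS : S.Exact) [Epi S.g] (P : X.Modules) :
    (preSeq S P).Exact := by
  haveI : Mono (preSeq S P).f := mono_preMap S.g P
  refine (preSeq S P).exact_of_f_is_kernel (KernelFork.IsLimit.ofι' _ _ (fun {T} k hk => ?_))
  haveI : PreservesColimitsOfSize.{0, 0} ((TB).flip.obj T) :=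
    haveI : ((TB).flip.obj T).IsLeftAdjoint := ModSiteLib.hasSheafHom X.sheaf T
    inferInstance
  haveI : ((TB).flip.obj T).Additive := KFlatLib.additive_tensorBi_flip T
  haveI hg : Epi (S.map ((TB).flip.obj T)).g := inferInstanceAs (Epi (((TB).flip.obj T).map S.g))
  have hex : (S.map ((TB).flip.obj T)).Exact := by
    refine ShortComplex.exact_of_g_is_cokernel _ ?_
    exact CokernelCofork.mapIsColimit _ hS.gIsCokernel ((TB).flip.obj T)
  have h0 : (S.map ((TB).flip.obj T)).f ≫ unc k = 0 := by
    have := congrArg unc hk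
    refine ((unc_comp_preMap S.f k).symm.trans this).trans ?_
    show ((TB).obj S.X₁).map 0 ≫ evMod S.X₁ P = 0
    rw [Functor.map_zero, zero_comp]
  refine ⟨curryMod (hex.desc (unc k) h0), unc_injective ?_⟩
  rw [show (preSeq S P).f = preMap S.g P from rfl, unc_comp_preMap, unc_curry]
  exact hex.g_desc (unc k) h0

theorem preSeq_shortExact {S : ShortComplex X.Modules} (hS : S.ShortExact) (I : X.Modules) [Injective I] :
    (preSeq S I).ShortExact :=
  haveI := hS.epi_g
  haveI := hS.mono_f
  ShortComplex.ShortExact.mk (mono_f := mono_preMap S.g I) (epi_g := epi_preMap S.f I)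
    (preSeq_exact hS.exact I)

end ExtShLib
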