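import Groth.Agent.ExtShLib.Contra
import Mathlib.CategoryTheory.Abelian.RightDerived
import Mathlib.Algebra.Homology.HomologicalComplexAbelian
import Mathlib.Algebra.Homology.HomologySequence

/-!
# Sheaf Ext from an injective resolution of the second variable
-/

set_option autoImplicit false
set_option linter.unusedSectionVars false
set_option linter.style.haveILetI false
set_option backward.isDefEq.respectTransparency false
set_option backward.isDefEq.respectTransparency.types false
universe u

open CategoryTheory CategoryTheory.Limits AlgebraicGeometry TopologicalSpace Opposite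
open CohCmpLib (homMod)
open PnDualLib (preMap homFun)

noncomputable section

namespace ExtShLib

variable {X : Scheme.{u}}

instance additive_homFun (M : X.Modules) : (homFun M).Additive :=
  (HomCohLib.homAdj M).right_adjoint_additive

instance preservesLimits_homFun (M : X.Modules) : PreservesLimitsOfSize.{0, 0} (homFun M) :=
  (HomCohLib.homAdj M).rightAdjoint_preservesLimits

/-- The symmetry of the tensor product, natural in one variable. -/
def flipIso (M : X.Modules) : (DCoh.tensorBi (X := X)).flip.obj M ≅ (DCoh.tensorBi (X := X)).obj M :=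
  NatIso.ofComponents (fun N => KFlatLib.tensSwap M N) fun {A B} f =>
    (DCoh.shP.map_comp _ _).symm.trans ((congrArg DCoh.shP.map
      (BraidedCategory.braiding_naturality_left (DCoh.toP.map f) (DCoh.toP.obj M))).trans
        (DCoh.shP.map_comp _ _))

/-- The sheaf Hom of the prelude is `homMod`. -/
def shIso (M : X.Modules) [ModSite.HasSheafHom (O := X.sheaf) M] :
    ModSite.sheafHom (O := X.sheaf) M ≅ homFun M :=
  (ModSite.sheafHomAdj (O := X.sheaf) M).rightAdjointUniq ((HomCohLib.homAdj M).ofNatIsoLeft (flipIso M).symm)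

variable {G : X.Modules}

/-- `Hom(M, I)` for an injective resolution `I`. -/
abbrev hcx (M : X.Modules) (I : InjectiveResolution G) : CochainComplex X.Modules ℕ :=
  ((homFun M).mapHomologicalComplex _).obj I.cocomplex

variable (I : InjectiveResolution G)

/-- `Extᵠ(M, G)` as a homology sheaf. -/
theorem nonempty_extSh_iso (M : X.Modules) [ModSite.HasSheafHom (O := X.sheaf) M]
    [HasInjectiveResolutions (ModSite.Mod X.sheaf)] (q : ℕ) :
    Nonempty ((ModSite.extSh (O := X.sheaf) M q).obj G ≅ (hcx M I).homology q) := by
  haveI : HasInjectiveResolutions X.Modules := ‹HasInjectiveResolutions (ModSite.Mod X.sheaf)›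
  let F : X.Modules ⥤ X.Modules := ModSite.sheafHom (O := X.sheaf) M
  let σ : F ≅ homFun M := shIso M
  haveI : F.Additive := Functor.additive_of_iso σ.symm
  let β : (F.mapHomologicalComplex _).obj I.cocomplex ≅ hcx M I :=
    HomologicalComplex.Hom.isoOfComponents (fun i => σ.app _) fun i j _ => (σ.hom.naturality _).symm
  exact ⟨I.isoRightDerivedObj F q ≪≫ (HomologicalComplex.homologyFunctor X.Modules (ComplexShape.up ℕ) q).mapIso β⟩

/-- Precomposition on the complexes. -/
abbrev preCx {A B : X.Modules} (f : A ⟶ B) : hcx B I ⟶ hcx A I :=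
  (NatTrans.mapHomologicalComplex (preNat f) (ComplexShape.up ℕ)).app I.cocomplex

/-- The short complex of complexes of a short complex. -/
def seqCx (S : ShortComplex X.Modules) : ShortComplex (CochainComplex X.Modules ℕ) :=
  ShortComplex.mk (preCx I S.g) (preCx I S.f) (HomologicalComplex.hom_ext _ _ fun i =>
    (preSeq S (I.cocomplex.X i)).zero)

theorem seqCx_shortExact {S : ShortComplex X.Modules} (hS : S.ShortExact) : (seqCx I S).ShortExact :=
  HomologicalComplex.shortExact_of_degreewise_shortExact _ fun i => preSeq_shortExact hS (I.cocomplex.X i)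

theorem isZero_hcx_of_isFinLocFree {M : X.Modules} (hM : FlatMod.IsFinLocFree M) (q : ℕ) :
    IsZero ((hcx M I).homology (q + 1)) := by
  haveI : (homFun M).PreservesEpimorphisms := ⟨fun {A B} φ hφ => by
    haveI := PnDualLib.epi_homFun hM φ
    rw [PnDualLib.homFun_map]; infer_instance⟩
  haveI : ∀ ⦃A B : X.Modules⦄ (f : A ⟶ B), PreservesLimit (parallelPair f 0) (homFun M) := fun A B f =>
    inferInstance
  haveI : (homFun M).PreservesHomology := (homFun M).preservesHomology_of_preservesEpis_and_kernels
  exact HomologicalComplex.ExactAt.isZero_homology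
    ((I.cocomplex_exactAt_succ q).map (homFun M))

/-- The augmentation `Hom(M, G) → Hom(M, I⁰)`. -/
abbrev aug (M : X.Modules) : homMod M G ⟶ (hcx M I).X 0 := (homFun M).map (I.ι.f 0)

theorem aug_comp (M : X.Modules) : aug I M ≫ (hcx M I).d 0 1 = 0 := by
  show (homFun M).map (I.ι.f 0) ≫ (homFun M).map (I.cocomplex.d 0 1) = 0
  rw [← Functor.map_comp, I.ι_f_zero_comp_complex_d, Functor.map_zero]

theorem isIso_liftCycles (M : X.Modules) :
    IsIso ((hcx M I).liftCycles (aug I M) 1 (by simp) (aug_comp I M)) := by
  have hk : IsLimit (KernelFork.ofι (aug I M) (aug_comp I M)) :=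
    KernelFork.mapIsLimit _ I.isLimitKernelFork (homFun M)
  have hc := (hcx M I).cyclesIsKernel 0 1 (by simp)
  let e := IsLimit.conePointUniqueUpToIso hk hc
  have he : (hcx M I).liftCycles (aug I M) 1 (by simp) (aug_comp I M) = e.hom := by
    rw [← cancel_mono ((hcx M I).iCycles 0), HomologicalComplex.liftCycles_i]
    exact (IsLimit.conePointUniqueUpToIso_hom_comp hk hc WalkingParallelPair.zero).symm
  rw [he]; infer_instance

/-- `Ext⁰ = Hom`. -/
def z0 (M : X.Modules) : homMod M G ⟶ (hcx M I).homology 0 :=
  (hcx M I).liftCycles (aug I M) 1 (by simp) (aug_comp I M) ≫ (hcx M I).homologyπ 0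

instance isIso_z0 (M : X.Modules) : IsIso (z0 I M) := by
  haveI := isIso_liftCycles I M
  haveI : IsIso ((hcx M I).homologyπ 0) :=
    (hcx M I).isIso_homologyπ ((ComplexShape.up ℕ).prev 0) 0 rfl ((hcx M I).shape _ _ (by simp))
  exact IsIso.comp_isIso

theorem z0_natural {A B : X.Modules} (f : A ⟶ B) :
    z0 I B ≫ HomologicalComplex.homologyMap (preCx I f) 0 = preMap f G ≫ z0 I A := by
  rw [z0, z0, Category.assoc, HomologicalComplex.homologyπ_naturality, ← Category.assoc, ← Category.assoc]
  congr 1
  rw [← cancel_mono ((hcx A I).iCycles 0), Category.assoc, HomologicalComplex.cyclesMap_i,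
    ← Category.assoc, HomologicalComplex.liftCycles_i, Category.assoc, HomologicalComplex.liftCycles_i]
  exact (preNat f).naturality (I.ι.f 0)

end ExtShLib
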