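import Groth.Agent.ExtShLib.Hcx
import Groth.Agent.CycKSuppLib.Killed
import Groth.Agent.ProjClosedImmLib.Stalk
import Groth.Agent.PerfCompLib.Theta
import Groth.Agent.DevissLib.ClosedImm

/-!
# The exceptional inverse image along a closed immersion
-/

set_option autoImplicit false
set_option linter.unusedSectionVars false
set_option linter.style.haveILetI false
set_option backward.isDefEq.respectTransparency false
set_option backward.isDefEq.respectTransparency.types false
universe u

open CategoryTheory CategoryTheory.Limits AlgebraicGeometry TopologicalSpace Opposite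
open CohCmpLib (homMod hVal)
open PnDualLib (homFun)

noncomputable section

namespace ExtShLib

theorem smul_comp_eq_zero {R : Type*} [CommRing R] {A B : Type*} [AddCommGroup A] [AddCommGroup B] [Module R A]
    [Module R B] (φ : A →ₗ[R] B) (r : R) (h : ∀ m : A, r • m = 0) : r • φ = 0 :=
  LinearMap.ext fun m => by rw [LinearMap.smul_apply, ← map_smul, h, map_zero, LinearMap.zero_apply]

variable {X P : Scheme.{u}} (i : X ⟶ P) [IsClosedImmersion i]

/-- The direct image of the structure sheaf. -/
abbrev pO : P.Modules := (Scheme.Modules.pushforward i).obj (Coh.structureModule X)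

theorem kil_homMod (W : P.Modules) : CycKSuppLib.Kil i (homMod (pO i) W) := by
  refine CycKSuppLib.kil_of_killed i fun U a ha h => CohCmpLib.homMod_ext fun y hy => ?_
  refine (CohCmpLib.hVal_smul (show Γ(P, U.1) from a) h y hy).trans ?_
  refine (smul_comp_eq_zero _ _ fun m => ?_).trans (LinearMap.ext fun m => ?_).symm
  · by_cases hr : y ∈ Set.range ⇑i
    · obtain ⟨z, rfl⟩ := hr
      refine (CycKSuppLib.kil_push i (Coh.structureModule X)).2 z _ ?_ m
      rw [Scheme.Hom.germ_stalkMap_apply]
      rw [Scheme.Hom.ker_apply, RingHom.mem_ker] at ha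
      refine (congrArg _ ha).trans (map_zero _)
    · exact @Subsingleton.elim _ (not_not.mp fun hs => hr ((CycKSuppLib.kil_push i (Coh.structureModule X)).1 hs)) _ _
  · rfl

/-- `ι_* O ⊗ - = ι_* ι^*`. -/
def tensPushIso : (DCoh.tensorBi (X := P)).obj (pO i) ≅
    Scheme.Modules.pullback i ⋙ Scheme.Modules.pushforward i :=
  NatIso.ofComponents
    (fun b => @asIso _ _ _ _ (ProjClosedImmLib.projR i (Coh.structureModule X) b)
        (ProjClosedImmLib.isIso_projR i _ b) ≪≫
      (Scheme.Modules.pushforward i).mapIso (PerfCompLib.tensUnitNat.app ((Scheme.Modules.pullback i).obj b)))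
    fun {b b'} ψ => by
      show ((DCoh.tensorBi (X := P)).obj (pO i)).map ψ ≫ ProjClosedImmLib.projR i _ b' ≫ _ =
        (ProjClosedImmLib.projR i _ b ≫ _) ≫ _
      refine (Category.assoc _ _ _).symm.trans ((congrArg (· ≫ _)
        (ProjClosedImmLib.projR_natural_right i (Coh.structureModule X) ψ)).trans ?_)
      rw [Category.assoc, Category.assoc]
      refine congrArg (_ ≫ ·) ?_
      exact ((Scheme.Modules.pushforward i).map_comp _ _).symm.trans ((congrArg (Scheme.Modules.pushforward i).map
        (PerfCompLib.tensUnitNat.hom.naturality ((Scheme.Modules.pullback i).map ψ))).trans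
        ((Scheme.Modules.pushforward i).map_comp _ _))

/-- The exceptional inverse image `ι^!`. -/
abbrev shriek : P.Modules ⥤ X.Modules := homFun (pO i) ⋙ Scheme.Modules.pullback i

/-- The counit of pullback and direct image is invertible. -/
def counitIso : Scheme.Modules.pushforward i ⋙ Scheme.Modules.pullback i ≅ 𝟭 X.Modules :=
  NatIso.ofComponents (fun A => CycKSuppLib.pullPushIso i A)
    (fun f => (Scheme.Modules.pullbackPushforwardAdjunction i).counit.naturality f)

/-- A killed `Hom` is a direct image. -/
def killedIso : homFun (pO i) ≅ shriek i ⋙ Scheme.Modules.pushforward i :=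
  NatIso.ofComponents (fun W => (CycKSuppLib.pushPullIso i (kil_homMod i W)).symm)
    (fun f => (Scheme.Modules.pullbackPushforwardAdjunction i).unit.naturality _)

/-- `ι_* ⊣ ι^!`. -/
def shriekAdj : Scheme.Modules.pushforward i ⊣ shriek i :=
  haveI : IsIso (Scheme.Modules.pullbackPushforwardAdjunction i).counit :=
    haveI := fun A => CycKSuppLib.isIso_counit i A
    NatIso.isIso_of_isIso_app _
  ((HomCohLib.homAdj (pO i)).ofNatIsoLeft (tensPushIso i)).restrictFullyFaithful
    (iC := Scheme.Modules.pushforward i) (iD := 𝟭 P.Modules)
    (Scheme.Modules.pullbackPushforwardAdjunction i).fullyFaithfulROfIsIsoCounit (Functor.FullyFaithful.id _)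
    (L := Scheme.Modules.pushforward i) (R := shriek i)
    ((Functor.associator _ _ _).symm ≪≫ Functor.isoWhiskerRight (counitIso i) _ ≪≫
      Functor.leftUnitor _ ≪≫ (Functor.rightUnitor _).symm)
    ((Functor.leftUnitor _) ≪≫ killedIso i)

instance preservesFiniteLimits_push' : PreservesFiniteLimits (Scheme.Modules.pushforward i) :=
  haveI := (Scheme.Modules.pullbackPushforwardAdjunction i).isRightAdjoint
  inferInstance

instance preservesFiniteColimits_push' : PreservesFiniteColimits (Scheme.Modules.pushforward i) :=
  haveI := (shriekAdj i).isLeftAdjoint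
  inferInstance

instance additive_shriek : (shriek i).Additive := (shriekAdj i).right_adjoint_additive

theorem injective_shriek (I : P.Modules) [Injective I] : Injective ((shriek i).obj I) :=
  Injective.injective_of_adjoint (shriekAdj i) I

end ExtShLib
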