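import Groth.Agent.ExtShLib.Hcx

/-!
# The comparison with the internal hom of modules on a site is natural
-/

set_option autoImplicit false
set_option linter.unusedSectionVars false
set_option maxHeartbeats 2000000
set_option linter.style.haveILetI false
set_option backward.isDefEq.respectTransparency false
set_option backward.isDefEq.respectTransparency.types false
universe u

open CategoryTheory CategoryTheory.Limits AlgebraicGeometry TopologicalSpace Opposite
open CohCmpLib (homMod evMod)
open PnDualLib (preMap homFun)

noncomputable section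

namespace ExtShLib

variable {X : Scheme.{u}}

local notation "TB" => DCoh.tensorBi (X := X)

theorem flip_natural_right {M M' : X.Modules} (g : M' ⟶ M) (N : X.Modules) :
    ((TB).obj N).map g ≫ (flipIso M).hom.app N = (flipIso M').hom.app N ≫ ((TB).map g).app N :=
  (DCoh.shP.map_comp _ _).symm.trans ((congrArg DCoh.shP.map
    (BraidedCategory.braiding_naturality_right (DCoh.toP.obj N) (DCoh.toP.map g))).trans
      (DCoh.shP.map_comp _ _))

theorem homAdj_counit (M P : X.Modules) :
    (HomCohLib.homAdj M).counit.app P = unc (𝟙 (homMod M P)) := rfl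

theorem flip_unc (M : X.Modules) {N P : X.Modules} (φ : N ⟶ homMod M P) :
    (flipIso M).hom.app N ≫ unc φ =
      ((TB).flip.obj M).map φ ≫ ((flipIso M).hom.app (homMod M P) ≫ (HomCohLib.homAdj M).counit.app P) := by
  have h1 : unc φ = ((TB).obj M).map φ ≫ unc (𝟙 (homMod M P)) :=
    (congrArg unc (Category.comp_id φ)).symm.trans (unc_comp φ (𝟙 _))
  rw [homAdj_counit, h1, ← Category.assoc, ← Category.assoc]
  exact congrArg (· ≫ unc (𝟙 (homMod M P))) ((flipIso M).hom.naturality φ).symm

variable (M : X.Modules) [ModSite.HasSheafHom (O := X.sheaf) M]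

/-- The counit of the prelude's internal hom, read in modules on the scheme. -/
def shCounit (P : X.Modules) :
    ((TB).flip.obj M).obj ((ModSite.sheafHom (O := X.sheaf) M).obj P) ⟶ P :=
  (ModSite.sheafHomAdj (O := X.sheaf) M).counit.app P

/-- The comparison, objectwise. -/
def shApp (P : X.Modules) : (ModSite.sheafHom (O := X.sheaf) M).obj P ≅ homMod M P := (shIso M).app P

theorem shApp_counit (P : X.Modules) :
    (flipIso M).hom.app _ ≫ unc (shApp M P).hom = shCounit M P := by
  refine (flip_unc M (shApp M P).hom).trans ?_
  exact Adjunction.rightAdjointUniq_hom_app_counit (ModSite.sheafHomAdj (O := X.sheaf) M)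
    ((HomCohLib.homAdj M).ofNatIsoLeft (flipIso M).symm) P

variable {M} {M' : X.Modules} [ModSite.HasSheafHom (O := X.sheaf) M'] (g : M' ⟶ M)

/-- The functoriality of the internal hom, objectwise. -/
def shMap (P : X.Modules) :
    (ModSite.sheafHom (O := X.sheaf) M).obj P ⟶ (ModSite.sheafHom (O := X.sheaf) M').obj P :=
  (ExtSupp.sheafHomMap (O := X.sheaf) g).app P

theorem shMap_counit (P : X.Modules) :
    ((TB).map (shMap g P)).app M' ≫ shCounit M' P = ((TB).obj _).map g ≫ shCounit M P :=
  conjugateEquiv_counit (ModSite.sheafHomAdj (O := X.sheaf) M) (ModSite.sheafHomAdj (O := X.sheaf) M')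
    ((ModSite.tensorBi X.sheaf).flip.map g) P

theorem shMap_natural (P : X.Modules) :
    shMap g P ≫ (shApp M' P).hom = (shApp M P).hom ≫ preMap g P := by
  refine unc_injective ?_
  rw [← cancel_epi ((flipIso M').hom.app ((ModSite.sheafHom (O := X.sheaf) M).obj P)), unc_comp,
    ← Category.assoc, ← (flipIso M').hom.naturality (shMap g P), Category.assoc, shApp_counit,
    unc_comp_preMap, ← Category.assoc, ← flip_natural_right g, Category.assoc, shApp_counit]
  exact shMap_counit g P

end ExtShLib
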