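import Groth.Agent.ExtShLib.Resol
import Groth.Agent.VBP1Lib.Tensor
import Groth.Agent.CurvLib.Divisor
import Groth.Agent.MiscFlat6.Untwist
import Groth.Agent.ProjFormLib.Frame

/-!
# The first sheaf Ext out of an effective divisor
-/

set_option autoImplicit false
set_option linter.unusedSectionVars false
set_option maxHeartbeats 1000000
set_option linter.style.haveILetI false
set_option backward.isDefEq.respectTransparency false
set_option backward.isDefEq.respectTransparency.types false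
universe u

open CategoryTheory CategoryTheory.Limits AlgebraicGeometry TopologicalSpace Opposite
open CohCmpLib (homMod hVal evMod curryMod happ)
open ProjFormLib (ger res)
open PnDualLib (preMap homFun)
open KFlatLib (shTm tens)
open scoped MonoidalCategory

noncomputable section

namespace ExtShLib

variable {X : Scheme.{u}}

local notation "𝒪" => Coh.structureModule X

theorem isIso_unitToPush_of_isIso {D X : Scheme.{u}} (j : D ⟶ X) [IsIso j] : IsIso (ClSub.unitToPush j) :=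
  Scheme.Modules.Hom.isIso_iff_isIso_app.2 fun U => by
    rw [ConcreteCategory.isIso_iff_bijective]
    exact (ConcreteCategory.isIso_iff_bijective (j.app U)).1 inferInstance

/-- The left unitor. -/
def uL (N : X.Modules) : tens 𝒪 N ⟶ N := (HilbPolyLib.unitLeft N).hom

instance isIso_uL (N : X.Modules) : IsIso (uL N) := (inferInstanceAs (IsIso (HilbPolyLib.unitLeft N).hom))

theorem uL_natural {A B : X.Modules} (g : A ⟶ B) :
    ((DCoh.tensorBi (X := X)).obj 𝒪).map g ≫ uL B = uL A ≫ g := VBP1Lib.unitNatIso.hom.naturality g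

theorem unitLeft_shTm (N : X.Modules) {U : X.Opens} (r : Γ(X, U)) (n : Γ(N, U)) :
    (uL N).app U (shTm (M := 𝒪) (show Γ(𝒪, U) from r) n) = r • n := by
  have h : uL N = KFlatLib.tensDesc (M := 𝒪) (N := N) (P := N)
      (show (KFlatLib.pT 𝒪 N : X.PresheafOfModules) ⟶ (Scheme.Modules.toPresheafOfModules X).obj N from
        (λ_ (DCoh.toP.obj N)).hom) :=
    ((PresheafOfModules.sheafificationAdjunction.{u} (R := X.ringCatSheaf)
        (𝟙 X.ringCatSheaf.obj)).homEquiv_counit _ _ _).symm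
  rw [h]
  exact KFlatLib.tensDesc_shApp _ U _

/-- `ω = ℋom(O, ω)`. -/
def unitHom' (ω : X.Modules) : ω ⟶ homMod 𝒪 ω := curryMod (uL ω)

instance isIso_unitHom' (ω : X.Modules) : IsIso (unitHom' ω) := by
  refine ⟨inv (uL (homMod 𝒪 ω)) ≫ evMod 𝒪 ω, ?_, ?_⟩
  · have h : ((DCoh.tensorBi (X := X)).obj 𝒪).map (unitHom' ω) ≫ evMod 𝒪 ω = uL ω := unc_curry (uL ω)
    have h2 : unitHom' ω ≫ inv (uL (homMod 𝒪 ω)) = inv (uL ω) ≫ ((DCoh.tensorBi (X := X)).obj 𝒪).map (unitHom' ω) := by
      rw [IsIso.comp_inv_eq, Category.assoc, uL_natural, IsIso.inv_hom_id_assoc]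
    rw [← Category.assoc, h2, Category.assoc, h, IsIso.inv_hom_id]
  · refine unc_injective ?_
    rw [unc_comp, unitHom', unc_curry, uL_natural, IsIso.hom_inv_id_assoc]
    show evMod 𝒪 ω = ((DCoh.tensorBi (X := X)).obj 𝒪).map (𝟙 _) ≫ evMod 𝒪 ω
    rw [CategoryTheory.Functor.map_id, Category.id_comp]

variable (ω : X.Modules)

theorem ger_happ_unitHom' {U : X.Opens} (s : Γ(ω, U)) (r : Γ(X, U)) :
    happ ((unitHom' ω).app U s) (show Γ(𝒪, U) from r) = r • s := by
  refine ProjFormLib.section_ext _ _ fun y hy => ?_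
  rw [CohCmpLib.ger_happ, unitHom', CohCmpLib.hVal_curryMod, CohCmpLib.evS_ger, unitLeft_shTm]

theorem hVal_ger_happ {A B : X.Modules} {U W : X.Opens} (h : Γ(homMod A B, U)) {y : X} (hy : y ∈ U)
    (hWU : W ≤ U) (hW : y ∈ W) (a : Γ(A, W)) :
    hVal h y hy (ger A y hW a) = ger B y hW (happ (res (homMod A B) hWU h) a) := by
  rw [CohCmpLib.ger_happ, CohCmpLib.hVal_res]

theorem hVal_tens_ger {A B M N : X.Modules} (Φ : tens M N ⟶ homMod A B) {U W : X.Opens} (m : Γ(M, U)) (n : Γ(N, U))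
    {y : X} (hy : y ∈ U) (hWU : W ≤ U) (hW : y ∈ W) (a : Γ(A, W)) :
    hVal (Φ.app U (shTm m n)) y hy (ger A y hW a) =
      ger B y hW (happ (Φ.app W (shTm (res M hWU m) (res N hWU n))) a) := by
  refine (hVal_ger_happ _ hy hWU hW a).trans (congrArg (fun s => ger B y hW (happ s a)) ?_)
  exact (MiscFlat6.app_res Φ hWU _).trans (congrArg (Φ.app W) (ProjFormLib.shTm_res hWU m n))

theorem left_val {I : X.Modules} (f : I ⟶ 𝒪) (ω : X.Modules) {U : X.Opens} (a b : Γ(I, U)) (h : Γ(homMod I ω, U)) :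
    happ ((((DCoh.tensorBi (X := X)).map f).app (homMod I ω) ≫ uL (homMod I ω)).app U (shTm b h)) a =
      happ ((show Γ(X, U) from f.app U b) • h) a :=
  congrArg (fun s => happ s a)
    ((congrArg ((uL (homMod I ω)).app U) (KFlatLib.tensorBi_map₁_shTm f (homMod I ω) b h)).trans
      (unitLeft_shTm (homMod I ω) (show Γ(X, U) from f.app U b) h))

theorem right_val {I : X.Modules} (f : I ⟶ 𝒪) (ω : X.Modules) {U : X.Opens} (a b : Γ(I, U)) (h : Γ(homMod I ω, U)) :
    happ ((evMod I ω ≫ unitHom' ω ≫ preMap f ω).app U (shTm b h)) a =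
      (show Γ(X, U) from f.app U a) • happ h b := by
  show happ ((preMap f ω).app U ((unitHom' ω).app U ((evMod I ω).app U (shTm b h)))) a = _
  rw [CohCmpLib.evMod_app]
  refine Eq.trans ?_ (ger_happ_unitHom' ω (happ h b) (show Γ(X, U) from f.app U a))
  refine ProjFormLib.section_ext _ _ fun x hx => ?_
  rw [CohCmpLib.ger_happ, PnDualLib.hVal_preMap, LinearMap.comp_apply, ProjFormLib.ger_map, CohCmpLib.ger_happ]

theorem happ_swap {I : X.Modules} (f : I ⟶ 𝒪) [Mono f] (ω : X.Modules) {U : X.Opens} (a b : Γ(I, U)) (h : Γ(homMod I ω, U)) :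
    happ ((show Γ(X, U) from f.app U b) • h) a = (show Γ(X, U) from f.app U a) • happ h b := by
  refine ProjFormLib.section_ext _ _ fun x hx => ?_
  rw [CohCmpLib.ger_happ, CohCmpLib.hVal_smul, LinearMap.smul_apply, ProjFormLib.ger_smul, CohCmpLib.ger_happ,
    ← map_smul, ← ProjFormLib.ger_smul, ← map_smul, ← ProjFormLib.ger_smul]
  refine congrArg (fun s => hVal h x hx (ger I x hx s)) ?_
  refine QCohLib.app_injective_of_mono f U ?_
  rw [Scheme.Modules.Hom.app_smul, Scheme.Modules.Hom.app_smul]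
  exact mul_comm (show Γ(X, U) from f.app U b) (show Γ(X, U) from f.app U a)

theorem divisor_square {I : X.Modules} (f : I ⟶ 𝒪) [Mono f] (ω : X.Modules) :
    ((DCoh.tensorBi (X := X)).map f).app (homMod I ω) ≫ uL (homMod I ω) =
      evMod I ω ≫ unitHom' ω ≫ preMap f ω := by
  suffices H : ∀ (U : X.Opens) (b : Γ(I, U)) (h : Γ(homMod I ω, U)) (y : X) (hy : y ∈ U)
      (z : CohCmpLib.stk I y),
      hVal ((((DCoh.tensorBi (X := X)).map f).app (homMod I ω) ≫ uL (homMod I ω)).app U (shTm b h)) y hy z =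
        hVal ((evMod I ω ≫ unitHom' ω ≫ preMap f ω).app U (shTm b h)) y hy z from
    KFlatLib.tens_hom_ext fun U b h => CohCmpLib.homMod_ext fun y hy => LinearMap.ext (H U b h y hy)
  intro U b h y hy z
  obtain ⟨V, hV, a, rfl⟩ := ProjFormLib.exists_ger I y z
  have hW : y ∈ U ⊓ V := ⟨hy, hV⟩
  rw [← ProjFormLib.ger_res I (inf_le_right : U ⊓ V ≤ V) y hW a]
  refine (hVal_tens_ger (((DCoh.tensorBi (X := X)).map f).app (homMod I ω) ≫ uL (homMod I ω)) b h hy
    (inf_le_left : U ⊓ V ≤ U) hW _).trans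
    (Eq.trans ?_ (hVal_tens_ger (evMod I ω ≫ unitHom' ω ≫ preMap f ω) b h hy (inf_le_left : U ⊓ V ≤ U) hW _).symm)
  refine congrArg (ger ω y hW) ?_
  rw [left_val, right_val, happ_swap f ω]

theorem isIso_evMod_of_inverse {L I : X.Modules} (e : CohB1.tensorMod L I ≅ 𝒪) (ω : X.Modules) :
    IsIso (evMod I ω) ∧ Nonempty (homMod I ω ≅ CohB1.tensorMod L ω) := by
  let E := VBP1Lib.inverseEquiv (HilbPolyLib.swapIso I L ≪≫ e)
  let adj := E.toAdjunction
  let u : homFun I ≅ CurvLib.tensorLeft' L := (HomCohLib.homAdj I).rightAdjointUniq adj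
  refine ⟨?_, ⟨u.app ω⟩⟩
  have h : ((DCoh.tensorBi (X := X)).obj I).map (u.hom.app ω) ≫ adj.counit.app ω =
      (HomCohLib.homAdj I).counit.app ω :=
    Adjunction.rightAdjointUniq_hom_app_counit (HomCohLib.homAdj I) adj ω
  have h' : (HomCohLib.homAdj I).counit.app ω = evMod I ω := by
    show ((DCoh.tensorBi (X := X)).obj I).map (𝟙 _) ≫ evMod I ω = evMod I ω
    rw [CategoryTheory.Functor.map_id, Category.id_comp]
  rw [← h', ← h]
  haveI : IsIso (adj.counit.app ω) := inferInstanceAs (IsIso (E.counit.app ω))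
  infer_instance

theorem nonempty_coker_preMap {S : ShortComplex X.Modules} (hS : S.ShortExact) (e : S.X₂ ≅ 𝒪) {L : X.Modules}
    (eL : CohB1.tensorMod L S.X₁ ≅ 𝒪) (ω : X.Modules) :
    Nonempty (cokernel (preMap S.f ω) ≅ CohB1.tensorMod S.X₃ (CohB1.tensorMod L ω)) := by
  haveI := hS.mono_f
  haveI := hS.epi_g
  let f : S.X₁ ⟶ 𝒪 := S.f ≫ e.hom
  haveI : Mono f := mono_comp _ _
  obtain ⟨hev, ⟨u⟩⟩ := isIso_evMod_of_inverse eL ω
  let H := homMod S.X₁ ω
  let T := (DCoh.tensorBi (X := X)).flip.obj H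
  haveI : PreservesColimitsOfSize.{0, 0} T :=
    haveI : T.IsLeftAdjoint := ModSiteLib.hasSheafHom X.sheaf H
    inferInstance
  haveI : T.Additive := KFlatLib.additive_tensorBi_flip H
  let c : cokernel (T.map S.f) ≅ T.obj S.X₃ :=
    (cokernelIsCokernel (T.map S.f)).coconePointUniqueUpToIso
      (CokernelCofork.mapIsColimit _ hS.exact.gIsCokernel T)
  have hsq : (T.map S.f) ≫ (T.map e.hom ≫ uL H) = evMod S.X₁ ω ≫ unitHom' ω ≫ preMap f ω := by
    rw [← Category.assoc, ← T.map_comp]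
    exact divisor_square f ω
  haveI : IsIso (preMap e.hom ω) :=
    ⟨preMap e.inv ω, by rw [preMap_comp, Iso.inv_hom_id, preMap_id], by rw [preMap_comp, Iso.hom_inv_id, preMap_id]⟩
  let α : cokernel (T.map S.f) ≅ cokernel (preMap S.f ω) :=
    cokernel.mapIso _ _ (asIso (evMod S.X₁ ω ≫ unitHom' ω ≫ preMap e.hom ω)) (asIso (T.map e.hom ≫ uL H)) (by
      show T.map S.f ≫ (T.map e.hom ≫ uL H) = (evMod S.X₁ ω ≫ unitHom' ω ≫ preMap e.hom ω) ≫ preMap S.f ω
      rw [hsq, Category.assoc, Category.assoc, preMap_comp])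
  exact ⟨α.symm ≪≫ c ≪≫ HilbPolyLib.congrRight S.X₃ u⟩

theorem nonempty_extSh_one_coker {S : ShortComplex X.Modules} (hS : S.ShortExact) (G : X.Modules)
    (hfree : ∀ I : InjectiveResolution G, IsZero ((hcx S.X₂ I).homology 1))
    [ModSite.HasSheafHom (O := X.sheaf) S.X₃] [HasInjectiveResolutions (ModSite.Mod X.sheaf)] :
    Nonempty ((ModSite.extSh (O := X.sheaf) S.X₃ 1).obj G ≅ cokernel (preMap S.f G)) := by
  let I : InjectiveResolution G := injectiveResolution G
  obtain ⟨e⟩ := nonempty_extSh_iso I S.X₃ 1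
  let hC := seqCx_shortExact I hS
  haveI hδ : Epi (hC.δ 0 1 (by simp)) :=
    (hC.homology_exact₁ 0 1 (by simp)).epi_f ((hfree I).eq_of_tgt _ _)
  let c : cokernel (HomologicalComplex.homologyMap (preCx I S.f) 0) ≅ (hcx S.X₃ I).homology 1 :=
    (cokernelIsCokernel _).coconePointUniqueUpToIso
      (haveI : Epi (ShortComplex.mk _ _ (hC.comp_δ 0 1 (by simp))).g := hδ
       (hC.homology_exact₃ 0 1 rfl).gIsCokernel)
  let α : cokernel (preMap S.f G) ≅ cokernel (HomologicalComplex.homologyMap (preCx I S.f) 0) :=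
    cokernel.mapIso _ _ (asIso (z0 I S.X₂)) (asIso (z0 I S.X₁)) (z0_natural I S.f).symm
  exact ⟨e ≪≫ c.symm ≪≫ α.symm⟩

theorem isFinLocFree_structureModule (X : Scheme.{u}) : FlatMod.IsFinLocFree (Coh.structureModule X) :=
  AmpleDevLib.isFinLocFree_of_isInvertible CurvLib.isInvertible_structureModule

theorem nonempty_push_iso_quotMod {D : Scheme.{u}} (i : D ⟶ X) [IsClosedImmersion i] :
    Nonempty (ClSub.quotMod i.ker ≅ (Scheme.Modules.pushforward i).obj (Coh.structureModule D)) := by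
  let j := i.toImage
  haveI : IsIso (ClSub.unitToPush j) := isIso_unitToPush_of_isIso j
  exact ⟨(Scheme.Modules.pushforward i.imageι).mapIso (asIso (ClSub.unitToPush j)) ≪≫
    (Scheme.Modules.pushforwardComp j i.imageι).app _ ≪≫
    (Scheme.Modules.pushforwardCongr i.toImage_imageι).app _⟩

end ExtShLib
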