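import Mathlib.Algebra.Homology.DerivedCategory.Ext.ExactSequences
import Mathlib.Algebra.Homology.DerivedCategory.Ext.EnoughInjectives
import Mathlib.CategoryTheory.Abelian.Injective.Resolution
import Mathlib.CategoryTheory.Adjunction.Additive

/-!
# A universal extension from a right adjoint whose derived functors vanish in low degrees
-/

set_option autoImplicit false
set_option linter.unusedSectionVars false
set_option linter.style.haveILetI false
set_option backward.isDefEq.respectTransparency false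
set_option backward.isDefEq.respectTransparency.types false
universe w v v' u u'

open CategoryTheory CategoryTheory.Limits

noncomputable section

namespace ExtShLib

open Abelian

section Split

variable {C : Type u} [Category.{v} C] [Abelian C] (K : CochainComplex C ℕ) [∀ j, Injective (K.X j)]

/-- A partial homotopy on an initially exact complex of injectives. -/
theorem exists_splitting : ∀ c : ℕ, (∀ q < c + 1, K.ExactAt q) →
    ∃ h : K.X (c + 1) ⟶ K.X c, K.d c (c + 1) ≫ h ≫ K.d c (c + 1) = K.d c (c + 1) := by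
  have aux : ∀ c : ℕ, (∀ q < c + 1, K.ExactAt q) →
      ∃ h : K.X (c + 1) ⟶ K.X c, (K.d c (c + 1) ≫ h - 𝟙 _) ≫ K.d c (c + 1) = 0 := by
    intro c
    induction c with
    | zero =>
      intro hex
      have h0 := (K.exactAt_iff' 0 0 1 (by simp) (by simp)).1 (hex 0 Nat.zero_lt_one)
      haveI : Mono (K.sc' 0 0 1).g := (ShortComplex.exact_iff_mono _ (K.shape _ _ (by simp))).1 h0
      exact ⟨Injective.factorThru (𝟙 _) (K.sc' 0 0 1).g, by
        rw [show K.d 0 1 = (K.sc' 0 0 1).g from rfl, Injective.comp_factorThru, sub_self, zero_comp]⟩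
    | succ c ih =>
      intro hex
      obtain ⟨h', hh'⟩ := ih fun q hq => hex q (by omega)
      have hS := (K.exactAt_iff' c (c + 1) (c + 1 + 1) (by simp) (by simp)).1 (hex (c + 1) (by omega))
      have hw : (K.sc' c (c + 1) (c + 1 + 1)).f ≫ (𝟙 _ - h' ≫ K.d c (c + 1)) = 0 := by
        show K.d c (c + 1) ≫ (𝟙 _ - h' ≫ K.d c (c + 1)) = 0
        rw [Preadditive.sub_comp, Category.id_comp, sub_eq_zero] at hh'
        rw [Preadditive.comp_sub, Category.comp_id, ← Category.assoc, hh', sub_self]
      have hd := hS.comp_descToInjective (J := K.X (c + 1)) _ hw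
      refine ⟨hS.descToInjective _ hw, ?_⟩
      rw [show K.d (c + 1) (c + 1 + 1) = (K.sc' c (c + 1) (c + 1 + 1)).g from rfl] at *
      rw [hd, sub_sub_cancel_left, Preadditive.neg_comp, Category.assoc,
        show K.d c (c + 1) ≫ (K.sc' c (c + 1) (c + 1 + 1)).g = 0 from K.d_comp_d _ _ _, comp_zero, neg_zero]
  intro c hex
  obtain ⟨h, hh⟩ := aux c hex
  rw [Preadditive.sub_comp, Category.id_comp, sub_eq_zero, Category.assoc] at hh
  exact ⟨h, hh⟩

end Split

variable {C : Type u} [Category.{v} C] [Abelian C] {D : Type u'} [Category.{v'} D] [Abelian D]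
variable {F : C ⥤ D} {R : D ⥤ C} [F.Additive] [R.Additive] (adj : F ⊣ R)
variable {W : D} (I : InjectiveResolution W)

/-- The cosyzygies. -/
abbrev cyc (j : ℕ) : D := kernel (I.cocomplex.d j (j + 1))

/-- The projection to the next cosyzygy. -/
def cycP (j : ℕ) : I.cocomplex.X j ⟶ cyc I (j + 1) :=
  kernel.lift _ (I.cocomplex.d j (j + 1)) (I.cocomplex.d_comp_d _ _ _)

theorem cycP_ι (j : ℕ) : cycP I j ≫ kernel.ι _ = I.cocomplex.d j (j + 1) := kernel.lift_ι _ _ _

/-- The short exact sequence of cosyzygies. -/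
abbrev cycSeq (j : ℕ) : ShortComplex D :=
  ShortComplex.mk (kernel.ι (I.cocomplex.d j (j + 1))) (cycP I j) (by
    rw [← cancel_mono (kernel.ι (I.cocomplex.d (j + 1) (j + 1 + 1))), Category.assoc, cycP_ι, zero_comp]
    exact kernel.condition _)

theorem cycSeq_shortExact (j : ℕ) : (cycSeq I j).ShortExact := by
  haveI : Mono (cycSeq I j).f := inferInstanceAs (Mono (kernel.ι _))
  haveI : Epi (cycSeq I j).g :=
    ((I.cocomplex.exactAt_iff' j (j + 1) (j + 1 + 1) (by simp) (by simp)).1
      (I.cocomplex_exactAt_succ j)).epi_kernelLift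
  refine ShortComplex.ShortExact.mk (ShortComplex.exact_of_f_is_kernel _ ?_)
  exact isKernelOfComp (f := cycP I j) (kernel.ι _) (I.cocomplex.d j (j + 1)) (kernelIsKernel _)
    (cycSeq I j).zero (cycP_ι I j)

instance injective_cycSeq (j : ℕ) : Injective (cycSeq I j).X₂ := inferInstanceAs (Injective (I.cocomplex.X j))

/-- The start of the cosyzygies. -/
def cycZero : cyc I 0 ≅ W :=
  IsLimit.conePointUniqueUpToIso (kernelIsKernel _) I.isLimitKernelFork

variable [HasExt.{w} D]

theorem mk₀_sub' {A B : D} (f g : A ⟶ B) : Ext.mk₀ (f - g) = Ext.mk₀ f - Ext.mk₀ g :=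
  map_sub (Ext.addEquiv₀ (X := A) (Y := B)).symm f g

/-- The class from a cosyzygy to the start. -/
def chain : ∀ j, Ext (cyc I j) W j
  | 0 => Ext.mk₀ (cycZero I).hom
  | j + 1 => (cycSeq_shortExact I j).extClass.comp (chain j) (add_comm 1 j)

theorem chain_bijective (B : D) : ∀ (j a b : ℕ) (_ : 0 < a) (h : a + j = b),
    Function.Bijective fun x : Ext B (cyc I j) a => x.comp (chain I j) h
  | 0, a, b, _, h => by
    obtain rfl : a = b := by omega
    refine Function.bijective_iff_has_inverse.2
      ⟨fun y => y.comp (Ext.mk₀ (cycZero I).inv) (add_zero a), fun x => ?_, fun y => ?_⟩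
    · simp [chain]
    · simp [chain]
  | j + 1, a, b, ha, h => by
    have hd : Function.Bijective fun x : Ext B (cycSeq I j).X₃ a => x.comp (cycSeq_shortExact I j).extClass rfl := by
      constructor
      · intro x y hxy
        have h0 : (x - y).comp (cycSeq_shortExact I j).extClass rfl = 0 := by
          rw [sub_eq_add_neg, Ext.add_comp, Ext.neg_comp, ← sub_eq_add_neg, sub_eq_zero]
          exact hxy
        obtain ⟨z, hz⟩ := Ext.covariant_sequence_exact₃ _ (cycSeq_shortExact I j) (x - y) rfl h0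
        obtain ⟨a', rfl⟩ : ∃ a', a = a' + 1 := ⟨a - 1, by omega⟩
        rw [Ext.eq_zero_of_injective z, Ext.zero_comp, eq_comm, sub_eq_zero] at hz
        exact hz
      · intro y
        exact Ext.covariant_sequence_exact₁ _ (cycSeq_shortExact I j) y (Ext.eq_zero_of_injective _) rfl
    have h2 := (chain_bijective B j (a + 1) b (by omega) (by omega)).comp hd
    convert h2 using 1
    funext x
    exact (Ext.comp_assoc x _ _ rfl (add_comm 1 j) (by omega)).symm

include adj in
/-- **The universal extension.** -/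
theorem exists_universal [F.PreservesMonomorphisms] (c : ℕ) (hR : ∀ q < c, ((R.mapHomologicalComplex _).obj I.cocomplex).ExactAt q) :
    ∃ e : Ext (F.obj (((R.mapHomologicalComplex _).obj I.cocomplex).homology c)) W c,
      ∀ A : C, Function.Bijective fun φ : A ⟶ ((R.mapHomologicalComplex _).obj I.cocomplex).homology c =>
        (Ext.mk₀ (F.map φ)).comp e (zero_add c) := by
  let K := (R.mapHomologicalComplex _).obj I.cocomplex
  haveI : PreservesFiniteLimits R := haveI := adj.isRightAdjoint; inferInstance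
  let ε : ∀ j, F.obj (K.X j) ⟶ I.cocomplex.X j := fun j => adj.counit.app _
  have hw : (F.map (K.iCycles c) ≫ ε c) ≫ I.cocomplex.d c (c + 1) = 0 := by
    rw [Category.assoc, show ε c ≫ I.cocomplex.d c (c + 1) = F.map (K.d c (c + 1)) ≫ ε (c + 1) from
      (adj.counit.naturality _).symm, ← Category.assoc, ← F.map_comp, K.iCycles_d, F.map_zero, zero_comp]
  let q : F.obj (K.cycles c) ⟶ cyc I c := kernel.lift _ (F.map (K.iCycles c) ≫ ε c) hw
  have hq : q ≫ kernel.ι _ = F.map (K.iCycles c) ≫ ε c := kernel.lift_ι _ _ _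
  have hqi : ∀ (A : C) (ψ : A ⟶ K.cycles c), (adj.homEquiv A (I.cocomplex.X c))
      (F.map ψ ≫ q ≫ kernel.ι _) = ψ ≫ K.iCycles c := fun A ψ => by
    rw [hq, ← Category.assoc, ← F.map_comp]
    exact (congrArg _ (adj.homEquiv_counit A (I.cocomplex.X c) (ψ ≫ K.iCycles c)).symm).trans
      (Equiv.apply_symm_apply _ _)
  have hqb : ∀ A : C, Function.Bijective fun ψ : A ⟶ K.cycles c => F.map ψ ≫ q := fun A => by
    constructor
    · intro a b hab
      rw [← cancel_mono (K.iCycles c)]
      have hab' := congrArg (fun z => adj.homEquiv A (I.cocomplex.X c) (z ≫ kernel.ι _)) hab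
      simp only [Category.assoc] at hab'
      exact (hqi A a).symm.trans (hab'.trans (hqi A b))
    · intro χ
      have hz : adj.homEquiv A _ (χ ≫ kernel.ι _) ≫ K.d c (c + 1) = 0 := by
        show adj.homEquiv A _ (χ ≫ kernel.ι _) ≫ R.map (I.cocomplex.d c (c + 1)) = 0
        rw [← adj.homEquiv_naturality_right, Category.assoc, kernel.condition, comp_zero, adj.homEquiv_unit,
          R.map_zero, comp_zero]
      refine ⟨K.liftCycles _ (c + 1) (by simp) hz, ?_⟩
      rw [← cancel_mono (kernel.ι (I.cocomplex.d c (c + 1)))]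
      refine (adj.homEquiv A (I.cocomplex.X c)).injective ?_
      rw [Category.assoc, hqi, HomologicalComplex.liftCycles_i]
  haveI : ∀ j, Injective (K.X j) := fun j => by
    exact Injective.injective_of_adjoint adj (I.cocomplex.X j)
  match c, hR, q, hqb with
  | 0, _, q, hqb =>
    haveI : IsIso (K.homologyπ 0) := K.isIso_homologyπ ((ComplexShape.up ℕ).prev 0) 0 rfl (K.shape _ _ (by simp))
    refine ⟨Ext.mk₀ (F.map (inv (K.homologyπ 0)) ≫ q ≫ (cycZero I).hom), fun A => ?_⟩
    simp only [Ext.mk₀_comp_mk₀]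
    refine (Ext.mk₀_bijective _ _).comp (?_ : Function.Bijective fun φ : A ⟶ K.homology 0 =>
      F.map φ ≫ F.map (inv (K.homologyπ 0)) ≫ q ≫ (cycZero I).hom)
    have h1 : Function.Bijective fun φ : A ⟶ K.homology 0 => φ ≫ inv (K.homologyπ 0) :=
      ((asIso (K.homologyπ 0)).symm.homToEquiv).bijective
    have h2 : Function.Bijective fun χ : F.obj A ⟶ cyc I 0 => χ ≫ (cycZero I).hom :=
      ((cycZero I).homToEquiv).bijective
    convert (h2.comp (hqb A)).comp h1 using 1
    funext φ
    simp [Functor.map_comp]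
  | c + 1, hR, q, hqb =>
    obtain ⟨h, hh⟩ := exists_splitting K c hR
    let b : K.X c ⟶ K.cycles (c + 1) := K.toCycles c (c + 1)
    let h' : K.cycles (c + 1) ⟶ K.X c := K.iCycles (c + 1) ≫ h
    have hb : b ≫ (𝟙 _ - h' ≫ b) = 0 := by
      rw [Preadditive.comp_sub, Category.comp_id, sub_eq_zero, ← cancel_mono (K.iCycles (c + 1))]
      simp only [b, h', Category.assoc, HomologicalComplex.toCycles_i, HomologicalComplex.toCycles_i_assoc]
      exact hh.symm
    have hcok := K.homologyIsCokernel c (c + 1) (by simp)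
    let s : K.homology (c + 1) ⟶ K.cycles (c + 1) := hcok.desc (CokernelCofork.ofπ (𝟙 _ - h' ≫ b) hb)
    have hps : K.homologyπ (c + 1) ≫ s = 𝟙 _ - h' ≫ b := Cofork.IsColimit.π_desc hcok
    have hsp : s ≫ K.homologyπ (c + 1) = 𝟙 _ := by
      rw [← cancel_epi (K.homologyπ (c + 1)), ← Category.assoc, hps, Preadditive.sub_comp, Category.id_comp,
        Category.assoc, show b ≫ K.homologyπ (c + 1) = 0 from K.toCycles_comp_homologyπ _ _, comp_zero, sub_zero,
        Category.comp_id]
    let hS := cycSeq_shortExact I c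
    have hbq : ∀ (A : C) (a : A ⟶ K.X c), F.map (a ≫ b) ≫ q = (F.map a ≫ ε c) ≫ cycP I c := fun A a => by
      rw [← cancel_mono (kernel.ι (I.cocomplex.d (c + 1) (c + 1 + 1))), Category.assoc, hq, Category.assoc, cycP_ι,
        F.map_comp, Category.assoc, Category.assoc, ← Category.assoc (F.map b), ← F.map_comp]
      refine congrArg (F.map a ≫ ·) ?_
      rw [show b ≫ K.iCycles (c + 1) = R.map (I.cocomplex.d c (c + 1)) from K.toCycles_i _ _]
      exact adj.counit.naturality _
    refine ⟨((Ext.mk₀ (F.map s ≫ q)).comp hS.extClass (zero_add 1)).comp (chain I c) (add_comm 1 c), fun A => ?_⟩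
    let δ : (F.obj A ⟶ cyc I (c + 1)) → Ext (F.obj A) (cyc I c) 1 := fun χ =>
      (Ext.mk₀ χ).comp hS.extClass (zero_add 1)
    have hδz : ∀ χ, δ χ = 0 ↔ ∃ a : F.obj A ⟶ I.cocomplex.X c, a ≫ cycP I c = χ := fun χ => by
      constructor
      · intro h0
        obtain ⟨y, hy⟩ := Ext.covariant_sequence_exact₃ _ hS (Ext.mk₀ χ) (rfl : 0 + 1 = 1) h0
        obtain ⟨a, rfl⟩ := Ext.homEquiv₀.symm.surjective y
        exact ⟨a, Ext.homEquiv₀.symm.injective ((Ext.mk₀_comp_mk₀ a (cycSeq I c).g).symm.trans hy)⟩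
      · rintro ⟨a, rfl⟩
        show (Ext.mk₀ (a ≫ (cycSeq I c).g)).comp hS.extClass _ = 0
        rw [← Ext.mk₀_comp_mk₀, Ext.comp_assoc_of_second_deg_zero, hS.comp_extClass, Ext.comp_zero]
    have hΦ : Function.Bijective fun φ : A ⟶ K.homology (c + 1) => δ (F.map (φ ≫ s) ≫ q) := by
      constructor
      · intro φ φ' he
        have hz : δ (F.map ((φ - φ') ≫ s) ≫ q) = 0 := by
          have : δ (F.map (φ ≫ s) ≫ q) = δ (F.map (φ' ≫ s) ≫ q) := he
          simp only [δ, Preadditive.sub_comp, F.map_sub] at this ⊢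
          rw [mk₀_sub', sub_eq_add_neg, Ext.add_comp, Ext.neg_comp, ← sub_eq_add_neg, this, sub_self]
        obtain ⟨a, ha⟩ := (hδz _).1 hz
        have ha' : a = F.map (adj.homEquiv A _ a) ≫ ε c :=
          ((adj.homEquiv A (I.cocomplex.X c)).symm_apply_apply a).symm.trans (adj.homEquiv_counit A (I.cocomplex.X c) _)
        rw [ha', ← hbq] at ha
        have h3 := congrArg (· ≫ K.homologyπ (c + 1)) ((hqb A).1 ha)
        simp only [Category.assoc, hsp, Category.comp_id] at h3
        rw [show b ≫ K.homologyπ (c + 1) = 0 from K.toCycles_comp_homologyπ _ _, comp_zero] at h3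
        exact sub_eq_zero.1 h3.symm
      · intro x
        obtain ⟨y, rfl⟩ := Ext.covariant_sequence_exact₁ _ hS x (Ext.eq_zero_of_injective _) (rfl : 0 + 1 = 1)
        obtain ⟨χ, rfl⟩ := Ext.homEquiv₀.symm.surjective y
        obtain ⟨ψ, rfl⟩ := (hqb A).2 χ
        refine ⟨ψ ≫ K.homologyπ (c + 1), ?_⟩
        have hz : δ (F.map (ψ ≫ h' ≫ b) ≫ q) = 0 :=
          (hδz _).2 ⟨F.map (ψ ≫ h') ≫ ε c, (hbq _ _).symm.trans (congrArg (fun z => F.map z ≫ q) (Category.assoc _ _ _))⟩
        simp only [δ] at hz ⊢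
        rw [Category.assoc, hps, Preadditive.comp_sub, Category.comp_id, F.map_sub, Preadditive.sub_comp, mk₀_sub',
          sub_eq_add_neg, Ext.add_comp, Ext.neg_comp, hz, neg_zero, add_zero]
        rfl
    convert (chain_bijective I (F.obj A) c 1 (c + 1) Nat.one_pos (add_comm 1 c)).comp hΦ using 1
    funext φ
    simp only [δ, Function.comp_apply, F.map_comp, Category.assoc]
    rw [← Ext.comp_assoc _ _ _ (zero_add 1) (add_comm 1 c) (by omega), ← Ext.comp_assoc _ _ _ (add_zero 0) (zero_add 1) (by omega),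
      Ext.mk₀_comp_mk₀]

end ExtShLib
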