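import Groth.Agent.ExtShLib.Proj

/-!
# Sheaf Ext into the dualizing sheaf of projective space is coherent
-/

set_option autoImplicit false
set_option linter.unusedSectionVars false
set_option linter.style.haveILetI false
set_option backward.isDefEq.respectTransparency false
set_option backward.isDefEq.respectTransparency.types false
universe u

open CategoryTheory CategoryTheory.Limits AlgebraicGeometry TopologicalSpace Opposite

noncomputable section

namespace ExtShLib

theorem isCoh_homology_short {X : Scheme.{u}} [IsLocallyNoetherian X] (S : ShortComplex X.Modules)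
    (h₁ : Coh.IsCoh S.X₁) (h₂ : Coh.IsCoh S.X₂) (h₃ : Coh.IsCoh S.X₃) : Coh.IsCoh S.homology := by
  let h := ShortComplex.LeftHomologyData.ofHasKernelOfHasCokernel S
  exact QCohLib.isCoh_of_iso h.homologyIso.symm
    (QCohLib.isCoh_cokernel (kernel.lift S.g S.f S.zero) h₁.1 (QCohLib.isCoh_kernel S.g h₂ h₃.1))

theorem isCoh_extSh_proj (k : Type u) [Field k] (n : ℕ) (F : (CohB1.ProjSpace n k).Modules) (hF : Coh.IsCoh F)
    [ModSite.HasSheafHom (O := (CohB1.ProjSpace n k).sheaf) F]
    [HasInjectiveResolutions (ModSite.Mod (CohB1.ProjSpace n k).sheaf)] :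
    ∀ j : ℕ, Coh.IsCoh ((ModSite.extSh (O := (CohB1.ProjSpace n k).sheaf) F j).obj
      (Twist.twistProjSpace n k (-((n : ℤ) + 1)))) := by
  haveI := PnCohLib.isLocallyNoetherian_projSpace (n := n) k
  let I : InjectiveResolution (Twist.twistProjSpace n k (-((n : ℤ) + 1))) := injectiveResolution _
  intro j
  match j with
  | 0 =>
    obtain ⟨e⟩ := nonempty_extSh_zero I F
    exact QCohLib.isCoh_of_iso e (HomCohLib.isCoh_homMod hF
      (CurvLib.isCoh_of_isInvertible (PicPnLib.twist_inv n k _)))
  | q + 1 =>
    obtain ⟨e⟩ := (projSyz k n F hF I).nonempty_extSh q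
    exact QCohLib.isCoh_of_iso e (isCoh_homology_short _ (PnDualLib.isCoh_dual k n F hF q)
      (PnDualLib.isCoh_dual k n F hF (q + 1)) (PnDualLib.isCoh_dual k n F hF (q + 1 + 1)))

end ExtShLib
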