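import Groth.Agent.PnDualLib.Ext
import Mathlib.Algebra.Homology.DerivedCategory.Ext.Map

/-!
# The Yoneda pairing on projective space is perfect
-/

set_option autoImplicit false
set_option linter.unusedSectionVars false
set_option linter.style.haveILetI false
set_option maxHeartbeats 1000000
set_option backward.isDefEq.respectTransparency false
set_option backward.isDefEq.respectTransparency.types false
universe u

open CategoryTheory CategoryTheory.Limits AlgebraicGeometry TopologicalSpace Opposite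
open PnDualLib (mid syz cov incl syzSeq syzSeq_shortExact)

noncomputable section

namespace ExtShLib

open Abelian

section Gen

variable {X : Scheme.{u}} [HasExt.{u} X.Modules]

/-- The Yoneda product of a class with an extension of modules. -/
def cupE {G W : X.Modules} {p q m : ℕ} (h : p + q = m) (x : Coh.HH X G p) (e : Ext G W q) : Coh.HH X W m :=
  Ext.comp x (e.mapExactFunctor (QCohLib.toAbF X)) h

theorem cupE_add_left {G W : X.Modules} {p q m : ℕ} (h : p + q = m) (x y : Coh.HH X G p) (e : Ext G W q) :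
    cupE h (x + y) e = cupE h x e + cupE h y e := Ext.add_comp _ _ _ h

theorem cupE_add_right {G W : X.Modules} {p q m : ℕ} (h : p + q = m) (x : Coh.HH X G p) (e e' : Ext G W q) :
    cupE h x (e + e') = cupE h x e + cupE h x e' := by
  unfold cupE
  rw [Ext.mapExactFunctor_add, Ext.comp_add]

theorem cupE_zero_right {G W : X.Modules} {p q m : ℕ} (h : p + q = m) (x : Coh.HH X G p) :
    cupE h x (0 : Ext G W q) = 0 := by
  unfold cupE
  rw [Ext.mapExactFunctor_zero, Ext.comp_zero]

theorem cupE_natural {G G' W : X.Modules} {p q m : ℕ} (h : p + q = m) (f : G' ⟶ G) (x : Coh.HH X G' p)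
    (e : Ext G W q) :
    cupE h x ((Ext.mk₀ f).comp e (zero_add q)) = cupE h (Sheaf.H.map ((QCohLib.toAbF X).map f) p x) e := by
  unfold cupE
  rw [Ext.mapExactFunctor_comp, Ext.mapExactFunctor_mk₀, ← Ext.comp_assoc_of_second_deg_zero]
  rfl

theorem cupE_mk₀ {G W : X.Modules} {p : ℕ} (x : Coh.HH X G p) (φ : G ⟶ W) :
    cupE (add_zero p) x (Ext.mk₀ φ) = Sheaf.H.map ((QCohLib.toAbF X).map φ) p x := by
  unfold cupE
  rw [Ext.mapExactFunctor_mk₀]
  rfl

theorem cupE_extClass {W : X.Modules} {S : ShortComplex X.Modules} (hS : S.ShortExact) {p q m : ℕ}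
    (h : p + 1 + q = m) (h' : p + (q + 1) = m) (x : Coh.HH X S.X₃ p) (e : Ext S.X₁ W q) :
    cupE h' x (hS.extClass.comp e (add_comm 1 q)) =
      cupE h (AtlasCoh.hδ (QCohLib.toAbF_shortExact hS) p x) e := by
  unfold cupE
  rw [Ext.mapExactFunctor_comp, Ext.mapExactFunctor_extClass]
  exact (Ext.comp_assoc x _ _ rfl (add_comm 1 q) (by omega)).symm

end Gen

variable (k : Type u) [Field k] (n : ℕ) [HasExt.{u} (CohB1.ProjSpace n k).Modules]

local notation "ℙ" => CohB1.ProjSpace n k
local notation "ω'" => Twist.twistProjSpace n k (-((n : ℤ) + 1))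

/-- The pairing `Extᵠ(G, ω) → Hom(Hᵖ(G), k)`. -/
def pairE (G : (CohB1.ProjSpace n k).Modules) {p q : ℕ} (h : p + q = n) (e : Ext G ω' q)
    (x : Coh.HH ℙ G p) : k := PnDualLib.trace k n (cupE h x e)

theorem pairE_add (G : (CohB1.ProjSpace n k).Modules) {p q : ℕ} (h : p + q = n) (e e' : Ext G ω' q)
    (x : Coh.HH ℙ G p) : pairE k n G h (e + e') x = pairE k n G h e x + pairE k n G h e' x := by
  unfold pairE; rw [cupE_add_right, map_add]

theorem pairE_natural {G G' : (CohB1.ProjSpace n k).Modules} {p q : ℕ} (h : p + q = n) (f : G' ⟶ G)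
    (e : Ext G ω' q) (x : Coh.HH ℙ G' p) :
    pairE k n G' h ((Ext.mk₀ f).comp e (zero_add q)) x = pairE k n G h e (CurvLib.hMap (k := k) f p x) := by
  unfold pairE; rw [cupE_natural]; rfl

theorem pairE_extClass {S : ShortComplex (CohB1.ProjSpace n k).Modules} (hS : S.ShortExact) {p q : ℕ}
    (h : p + 1 + q = n) (h' : p + (q + 1) = n) (x : Coh.HH ℙ S.X₃ p) (e : Ext S.X₁ ω' q) :
    pairE k n S.X₃ h' (hS.extClass.comp e (add_comm 1 q)) x =
      pairE k n S.X₁ h e (CurvLib.hDel (k := k) hS p x) := by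
  unfold pairE; rw [cupE_extClass hS h h']; rfl

/-- Duality in one degree: every pairing is linear and every form is one pairing. -/
def DualAt (q : ℕ) : Prop :=
  ∀ (G : (CohB1.ProjSpace n k).Modules), Coh.IsCoh G → ∀ (p : ℕ) (h : p + q = n),
    (∀ (e : Ext G ω' q) (c : k) (x : Coh.HH ℙ G p), pairE k n G h e (c • x) = c • pairE k n G h e x) ∧
      ∀ ψ : Coh.HH ℙ G p →ₗ[k] k, ∃! e : Ext G ω' q, ∀ x, pairE k n G h e x = ψ x

theorem dualAt_zero : DualAt k n 0 := fun G hG p h => by
  obtain rfl : p = n := by omega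
  have hp : ∀ (φ : G ⟶ Twist.twistProjSpace p k (-((p : ℤ) + 1))) x,
      pairE k p G h (Ext.mk₀ φ) x = PnDualLib.θ k p G φ x := fun φ x => by
    show PnDualLib.trace k p (cupE (add_zero p) x (Ext.mk₀ φ)) = _
    rw [cupE_mk₀]; rfl
  refine ⟨fun e c x => ?_, fun ψ => ?_⟩
  · obtain ⟨φ, rfl⟩ := (Ext.mk₀_bijective _ _).2 e
    rw [hp, hp, map_smul]
  · obtain ⟨φ, hφ⟩ := (PnDualLib.pair_bijective k p G hG).2 ψ
    refine ⟨Ext.mk₀ φ, fun x => ?_, fun e he => ?_⟩
    · rw [hp]; exact LinearMap.congr_fun hφ x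
    · obtain ⟨φ', rfl⟩ := (Ext.mk₀_bijective _ _).2 e
      refine congrArg Ext.mk₀ ((PnDualLib.pair_bijective k p G hG).1 (LinearMap.ext fun x => ?_))
      exact (hp φ' x).symm.trans ((he x).trans (LinearMap.congr_fun hφ x).symm)

theorem dualAt_succ (q : ℕ) (ih : DualAt k n q) : DualAt k n (q + 1) := fun G hG p h => by
  let hS := syzSeq_shortExact k n G hG 0
  let K := (syz k n G hG 1).1
  let M := mid k n G hG 0
  have hK : Coh.IsCoh K := (syz k n G hG 1).2
  have hM : Coh.IsCoh M := PnDualLib.isCoh_neg k n _ _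
  have h1 : p + 1 + q = n := by omega
  let δ : Coh.HH ℙ G p →ₗ[k] Coh.HH ℙ K (p + 1) := CurvLib.hDel (k := k) hS p
  let f : Coh.HH ℙ K (p + 1) →ₗ[k] Coh.HH ℙ M (p + 1) := CurvLib.hMap (k := k) (incl k n G hG 0) (p + 1)
  have hinj : Function.Injective δ :=
    PnDualLib.injective_del (k := k) hS (PnDualLib.subsingleton_mid k n G hG 0 p (by omega))
  have hsur : ∀ e : Ext G ω' (q + 1), ∃ e' : Ext K ω' q, hS.extClass.comp e' (add_comm 1 q) = e := fun e =>
    PnDualLib.extDel_surjective (R := k) hS (add_comm 1 q) (PnDualLib.subsingleton_ext_mid k n G hG 0 q) e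
  obtain ⟨hlin, hbij⟩ := ih K hK (p + 1) h1
  have key : ∀ (e' : Ext K ω' q) (x : Coh.HH ℙ G p),
      pairE k n G h (hS.extClass.comp e' (add_comm 1 q)) x = pairE k n K h1 e' (δ x) := fun e' x =>
    pairE_extClass k n hS h1 h x e'
  refine ⟨fun e c x => ?_, fun ψ => ?_⟩
  · obtain ⟨e', rfl⟩ := hsur e
    rw [key, key, map_smul, hlin]
  · obtain ⟨L, hL⟩ := LinearMap.exists_leftInverse_of_injective δ (LinearMap.ker_eq_bot.2 hinj)
    obtain ⟨e', he', -⟩ := hbij (ψ.comp L)
    refine ⟨hS.extClass.comp e' (add_comm 1 q), fun x => ?_, fun e he => ?_⟩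
    · rw [key, he', LinearMap.comp_apply]
      exact congrArg ψ (LinearMap.congr_fun hL x)
    · obtain ⟨a, rfl⟩ := hsur e
      let η : Coh.HH ℙ K (p + 1) →ₗ[k] k :=
        { toFun := fun y => pairE k n K h1 a y - pairE k n K h1 e' y
          map_add' := fun y z => by
            simp only [pairE, cupE_add_left, map_add]; ring
          map_smul' := fun c y => by rw [RingHom.id_apply, hlin, hlin, smul_sub] }
      have hker : η ∈ (LinearMap.ker f).dualAnnihilator := by
        rw [Submodule.mem_dualAnnihilator]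
        intro y hy
        obtain ⟨x, rfl⟩ := (CurvLib.exact₁ (k := k) hS p).ge hy
        show pairE k n K h1 a (δ x) - pairE k n K h1 e' (δ x) = 0
        rw [← key, ← key, he, key, he', LinearMap.comp_apply, sub_eq_zero]
        exact (congrArg ψ (LinearMap.congr_fun hL x)).symm
      rw [← LinearMap.range_dualMap_eq_dualAnnihilator_ker] at hker
      obtain ⟨ξ, hξ⟩ := hker
      obtain ⟨b, hb, -⟩ := (ih M hM (p + 1) h1).2 ξ
      have ha : a = e' + (Ext.mk₀ (incl k n G hG 0)).comp b (zero_add q) := by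
        let ζ : Coh.HH ℙ K (p + 1) →ₗ[k] k :=
          { toFun := fun y => pairE k n K h1 a y
            map_add' := fun y z => by simp only [pairE, cupE_add_left, map_add]
            map_smul' := fun c y => hlin a c y }
        obtain ⟨e₀, -, huniq⟩ := hbij ζ
        refine (huniq a fun y => rfl).trans (huniq _ fun y => ?_).symm
        rw [pairE_add, pairE_natural, hb]
        show _ + (ξ.comp f) y = _
        rw [show ξ.comp f = η from hξ]
        show _ + (pairE k n K h1 a y - pairE k n K h1 e' y) = pairE k n K h1 a y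
        ring
      rw [ha, Ext.comp_add, ← Ext.comp_assoc_of_second_deg_zero]
      rw [show hS.extClass.comp (Ext.mk₀ (incl k n G hG 0)) (add_zero 1) = 0 from hS.extClass_comp,
        Ext.zero_comp, add_zero]

theorem dualAt : ∀ q, DualAt k n q
  | 0 => dualAt_zero k n
  | q + 1 => dualAt_succ k n q (dualAt q)

end ExtShLib
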