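import Groth.Agent.CohTopLib.ClosedPush
import Groth.Prelude.Def_CohPull
import Mathlib.Algebra.Homology.DerivedCategory.Ext.Map

/-!
# Cohomology and direct image along a closed embedding, naturally
-/

set_option autoImplicit false
set_option linter.unusedSectionVars false
set_option linter.style.haveILetI false
set_option maxHeartbeats 1000000
set_option backward.isDefEq.respectTransparency false
set_option backward.isDefEq.respectTransparency.types false
universe u

open CategoryTheory CategoryTheory.Limits TopologicalSpace Opposite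

noncomputable section

namespace ExtShLib

open Abelian

variable {Z X : TopCat.{u}}

/-- The constant sheaf of integers. -/
abbrev cZ (X : TopCat.{u}) : CohTop.Ab X :=
  (constantSheaf (Opens.grothendieckTopology X) AddCommGrpCat.{u}).obj (AddCommGrpCat.of (ULift.{u} ℤ))

/-- Global sections of degree zero classes. -/
abbrev sec0 (X : TopCat.{u}) (A : CohTop.Ab X) : Sheaf.H A 0 ≃+ A.obj.obj (op (⊤ : Opens X)) :=
  Sheaf.H.equiv₀ A (IsTerminal.ofUniqueHom (fun U => homOfLE (le_top : U ≤ (⊤ : Opens X))) fun _ _ => Subsingleton.elim _ _)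

variable (i : Z ⟶ X)

/-- The canonical map `ℤ → i_* ℤ`. -/
def unitC : cZ X ⟶ (CohTop.push i).obj (cZ Z) :=
  Ext.addEquiv₀ ((sec0 X ((CohTop.push i).obj (cZ Z))).symm (sec0 Z (cZ Z) (Ext.mk₀ (𝟙 (cZ Z)))))

instance preservesFiniteLimits_push : PreservesFiniteLimits (CohTop.push i) :=
  haveI := (CohPull.invPushAdj i).isRightAdjoint
  inferInstance

theorem injective_push (I : CohTop.Ab Z) [Injective I] : Injective ((CohTop.push i).obj I) :=
  Injective.injective_of_adjoint (CohPull.invPushAdj i) I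

variable [PreservesFiniteColimits (CohTop.push i)]

/-- `Hᵖ(Z, A) → Hᵖ(X, i_*A)`. -/
def pushH (A : CohTop.Ab Z) (p : ℕ) : Sheaf.H A p →+ Sheaf.H ((CohTop.push i).obj A) p :=
  ((Ext.mk₀ (unitC i)).precomp ((CohTop.push i).obj A) (zero_add p)).comp
    ((CohTop.push i).mapExtAddHom (cZ Z) A p)

theorem pushH_apply (A : CohTop.Ab Z) (p : ℕ) (x : Sheaf.H A p) :
    pushH i A p x = (Ext.mk₀ (unitC i)).comp (x.mapExactFunctor (CohTop.push i)) (zero_add p) := rfl

theorem pushH_natural {A B : CohTop.Ab Z} (φ : A ⟶ B) (p : ℕ) (x : Sheaf.H A p) :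
    pushH i B p (Sheaf.H.map φ p x) = Sheaf.H.map ((CohTop.push i).map φ) p (pushH i A p x) := by
  rw [pushH_apply, pushH_apply]
  show (Ext.mk₀ (unitC i)).comp ((x.comp (Ext.mk₀ φ) (add_zero p)).mapExactFunctor (CohTop.push i)) (zero_add p) =
    ((Ext.mk₀ (unitC i)).comp (x.mapExactFunctor (CohTop.push i)) (zero_add p)).comp
      (Ext.mk₀ ((CohTop.push i).map φ)) (add_zero p)
  rw [Ext.mapExactFunctor_comp, Ext.mapExactFunctor_mk₀, Ext.comp_assoc_of_third_deg_zero]

theorem sec0_pushH (A : CohTop.Ab Z) (x : Sheaf.H A 0) :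
    sec0 X ((CohTop.push i).obj A) (pushH i A 0 x) = sec0 Z A x := by
  obtain ⟨φ, rfl⟩ := (Ext.mk₀_bijective _ _).2 x
  have h0 : sec0 X ((CohTop.push i).obj (cZ Z)) (pushH i (cZ Z) 0 (Ext.mk₀ (𝟙 (cZ Z)))) =
      sec0 Z (cZ Z) (Ext.mk₀ (𝟙 (cZ Z))) := by
    rw [pushH_apply, Ext.mapExactFunctor_mk₀, CategoryTheory.Functor.map_id, Ext.comp_mk₀_id, unitC]
    rw [show Ext.mk₀ (Ext.addEquiv₀ ((sec0 X ((CohTop.push i).obj (cZ Z))).symm
        (sec0 Z (cZ Z) (Ext.mk₀ (𝟙 (cZ Z)))))) = (sec0 X ((CohTop.push i).obj (cZ Z))).symm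
        (sec0 Z (cZ Z) (Ext.mk₀ (𝟙 (cZ Z)))) from Ext.addEquiv₀.symm_apply_apply _]
    exact AddEquiv.apply_symm_apply _ _
  have hx : Ext.mk₀ φ = Sheaf.H.map φ 0 (Ext.mk₀ (𝟙 (cZ Z))) := by
    show Ext.mk₀ φ = (Ext.mk₀ (𝟙 (cZ Z))).comp (Ext.mk₀ φ) (add_zero 0)
    rw [Ext.mk₀_comp_mk₀, Category.id_comp]
  rw [hx, pushH_natural]
  rw [← Sheaf.H.equiv₀_naturality, ← Sheaf.H.equiv₀_naturality, h0]
  rfl

theorem pushH_extClass {S : ShortComplex (CohTop.Ab Z)} (hS : S.ShortExact) (p : ℕ) (x : Sheaf.H S.X₃ p) :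
    pushH i S.X₁ (p + 1) (x.comp hS.extClass rfl) =
      (pushH i S.X₃ p x).comp (hS.map_of_exact (CohTop.push i)).extClass rfl := by
  rw [pushH_apply, pushH_apply, Ext.mapExactFunctor_comp, Ext.mapExactFunctor_extClass]
  exact (Ext.comp_assoc _ _ _ (zero_add p) rfl (by omega)).symm

theorem pushH_bijective : ∀ (p : ℕ) (A : CohTop.Ab Z), Function.Bijective (pushH i A p) := by
  intro p
  induction p with
  | zero =>
    intro A
    have h : ⇑(sec0 X ((CohTop.push i).obj A)) ∘ ⇑(pushH i A 0) = ⇑(sec0 Z A) := funext fun x => sec0_pushH i A x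
    exact (sec0 X ((CohTop.push i).obj A)).bijective.of_comp_iff' _ |>.1 (h ▸ (sec0 Z A).bijective)
  | succ p ih =>
    intro A
    let T : ShortComplex (CohTop.Ab Z) := ShortComplex.mk (Injective.ι A) (cokernel.π _) (cokernel.condition _)
    have hT : T.ShortExact := ShortComplex.ShortExact.mk (ShortComplex.exact_cokernel _)
    haveI : Injective T.X₂ := inferInstanceAs (Injective (Injective.under A))
    let hT' := hT.map_of_exact (CohTop.push i)
    haveI : Injective (T.map (CohTop.push i)).X₂ := injective_push i T.X₂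
    constructor
    · refine (injective_iff_map_eq_zero _).2 fun x hx => ?_
      obtain ⟨y, rfl⟩ := Ext.covariant_sequence_exact₁ _ hT x (Ext.eq_zero_of_injective _) rfl
      rw [pushH_extClass i hT] at hx
      obtain ⟨z, hz⟩ := Ext.covariant_sequence_exact₃ _ hT' (pushH i T.X₃ p y) rfl hx
      obtain ⟨z₀, rfl⟩ := (ih T.X₂).2 z
      have hy : Sheaf.H.map T.g p z₀ = y := (ih T.X₃).1 ((pushH_natural i T.g p z₀).trans hz)
      rw [← hy]
      show (z₀.comp (Ext.mk₀ T.g) (add_zero p)).comp hT.extClass rfl = 0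
      rw [Ext.comp_assoc_of_second_deg_zero, hT.comp_extClass, Ext.comp_zero]
    · intro w
      obtain ⟨y, hy⟩ := Ext.covariant_sequence_exact₁ _ hT' w (Ext.eq_zero_of_injective _) rfl
      obtain ⟨y₀, rfl⟩ := (ih T.X₃).2 y
      exact ⟨y₀.comp hT.extClass rfl, (pushH_extClass i hT p y₀).trans hy⟩

end ExtShLib
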