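import Groth.Agent.ExtShLib.Universal
import Groth.Agent.ExtShLib.Shriek
import Groth.Agent.ExtShLib.PushCoh
import Groth.Agent.ExtShLib.PairExt
import Groth.Agent.ExtShLib.Coherence
import Groth.Agent.MiscFlat6.TopDimCovers

/-!
# The dualizing module of a closed subscheme of projective space
-/

set_option autoImplicit false
set_option linter.unusedSectionVars false
set_option linter.style.haveILetI false
set_option maxHeartbeats 1000000
set_option backward.isDefEq.respectTransparency false
set_option backward.isDefEq.respectTransparency.types false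
universe u

open CategoryTheory CategoryTheory.Limits AlgebraicGeometry TopologicalSpace Opposite

noncomputable section

namespace ExtShLib

section Gen

variable {X P : Scheme.{u}} (i : X ⟶ P) [IsClosedImmersion i]

theorem push_fullyFaithful : Nonempty (Scheme.Modules.pushforward i).FullyFaithful := by
  haveI : IsIso (Scheme.Modules.pullbackPushforwardAdjunction i).counit :=
    haveI := fun A => CycKSuppLib.isIso_counit i A
    NatIso.isIso_of_isIso_app _
  exact ⟨(Scheme.Modules.pullbackPushforwardAdjunction i).fullyFaithfulROfIsIsoCounit⟩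

variable {W : P.Modules} (I : InjectiveResolution W)

/-- `ι^!` of an injective resolution. -/
abbrev kcx : CochainComplex X.Modules ℕ := ((shriek i).mapHomologicalComplex _).obj I.cocomplex

theorem nonempty_push_homology (q : ℕ) :
    Nonempty ((Scheme.Modules.pushforward i).obj ((kcx i I).homology q) ≅ (hcx (pO i) I).homology q) := by
  let α : ((Scheme.Modules.pushforward i).mapHomologicalComplex _).obj (kcx i I) ≅ hcx (pO i) I :=
    HomologicalComplex.Hom.isoOfComponents (fun j => (killedIso i).symm.app (I.cocomplex.X j))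
      fun a b _ => ((killedIso i).symm.hom.naturality (I.cocomplex.d a b)).symm
  exact ⟨(((kcx i I).sc q).mapHomologyIso (Scheme.Modules.pushforward i)).symm ≪≫
    (HomologicalComplex.homologyFunctor P.Modules _ q).mapIso α⟩

theorem exactAt_kcx [ModSite.HasSheafHom (O := P.sheaf) (pO i)] [HasInjectiveResolutions (ModSite.Mod P.sheaf)]
    (q : ℕ) (h : IsZero ((ModSite.extSh (O := P.sheaf) (pO i) q).obj W)) : (kcx i I).ExactAt q := by
  obtain ⟨e⟩ := nonempty_extSh_iso I (pO i) q
  obtain ⟨f⟩ := nonempty_push_homology i I q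
  rw [HomologicalComplex.exactAt_iff_isZero_homology]
  haveI := CycKSuppLib.faithful_push i
  have hz : IsZero ((Scheme.Modules.pushforward i).obj ((kcx i I).homology q)) := h.of_iso (f ≪≫ e.symm)
  rw [IsZero.iff_id_eq_zero]
  apply (Scheme.Modules.pushforward i).map_injective
  exact hz.eq_of_src _ _

/-- `Ext^c(ι_*F, W) = Hom(F, ω)` for `ι_*ω = ℰxt^c(ι_*O, W)` when the lower ones vanish. -/
theorem exists_universal_class [ModSite.HasSheafHom (O := P.sheaf) (pO i)]
    [HasInjectiveResolutions (ModSite.Mod P.sheaf)] [HasExt.{u} P.Modules] (c : ℕ)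
    (hlow : ∀ q < c, IsZero ((ModSite.extSh (O := P.sheaf) (pO i) q).obj W)) (ω : X.Modules)
    (hω : Nonempty ((Scheme.Modules.pushforward i).obj ω ≅ (ModSite.extSh (O := P.sheaf) (pO i) c).obj W)) :
    ∃ e : Abelian.Ext ((Scheme.Modules.pushforward i).obj ω) W c, ∀ A : X.Modules, Function.Bijective fun φ : A ⟶ ω =>
      (Abelian.Ext.mk₀ ((Scheme.Modules.pushforward i).map φ)).comp e (zero_add c) := by
  let I : InjectiveResolution W := injectiveResolution W
  obtain ⟨e, he⟩ := exists_universal (shriekAdj i) I c fun q hq => exactAt_kcx i I q (hlow q hq)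
  obtain ⟨g⟩ := hω
  obtain ⟨e'⟩ := nonempty_extSh_iso I (pO i) c
  obtain ⟨f⟩ := nonempty_push_homology i I c
  obtain ⟨ff⟩ := push_fullyFaithful i
  let θ : ω ≅ (kcx i I).homology c := ff.preimageIso (g ≪≫ e' ≪≫ f.symm)
  refine ⟨(Abelian.Ext.mk₀ ((Scheme.Modules.pushforward i).map θ.hom)).comp e (zero_add c), fun A => ?_⟩
  convert (he A).comp θ.homToEquiv.bijective using 1
  funext φ
  show _ = (Abelian.Ext.mk₀ ((Scheme.Modules.pushforward i).map (φ ≫ θ.hom))).comp e (zero_add c)
  rw [← Abelian.Ext.comp_assoc _ _ _ (add_zero 0) (zero_add c) (by omega), Abelian.Ext.mk₀_comp_mk₀,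
    Functor.map_comp]

end Gen

section Proj

variable (k : Type u) [Field k] (n : ℕ) {X : Scheme.{u}} [X.Over (Spec (CommRingCat.of k))]
  (i : X ⟶ CohB1.ProjSpace n k) [IsClosedImmersion i]

local notation "ℙ" => CohB1.ProjSpace n k

theorem appTop_cst (hi : i ≫ CohB1.ProjSpace.toSpec n k = X ↘ Spec (CommRingCat.of k)) (c : k) :
    i.appTop (show Γ(ℙ, ⊤) from PnDualLib.cst (X := ℙ) c) = PnDualLib.cst (X := X) c := by
  show i.appTop ((CohB1.ProjSpace.toSpec n k).appTop ((Scheme.ΓSpecIso (CommRingCat.of k)).inv c)) =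
    (X ↘ Spec (CommRingCat.of k)).appTop ((Scheme.ΓSpecIso (CommRingCat.of k)).inv c)
  rw [← hi, Scheme.Hom.comp_appTop]
  rfl

theorem push_smulHom (hi : i ≫ CohB1.ProjSpace.toSpec n k = X ↘ Spec (CommRingCat.of k)) (M : X.Modules) (c : k) :
    (Scheme.Modules.pushforward i).map (StabLib.smulHom M (PnDualLib.cst c)) =
      StabLib.smulHom ((Scheme.Modules.pushforward i).obj M) (PnDualLib.cst c) := by
  refine Scheme.Modules.hom_ext _ _ fun U => ?_
  ext m
  show (StabLib.smulHom M (PnDualLib.cst c)).app (i ⁻¹ᵁ U) m = _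
  rw [StabLib.smulHom_app, StabLib.smulHom_app]
  refine Eq.trans ?_ (QCohLib.push_smul i M _ m).symm
  refine congrArg (· • (show Γ(M, i ⁻¹ᵁ U) from m)) ?_
  rw [← appTop_cst k n i hi c]
  exact (ConcreteCategory.congr_hom (i.naturality (homOfLE (le_top : U ≤ ⊤)).op)
    (show Γ(ℙ, ⊤) from PnDualLib.cst (X := ℙ) c)).symm

instance preservesFiniteColimits_pushTop : PreservesFiniteColimits (CohTop.push i.base) :=
  CohTopLib.push_preservesFiniteColimits i.base i.isClosedEmbedding

/-- `Hᵖ(X, M) → Hᵖ(ℙ, ι_*M)`. -/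
def pushMap (M : X.Modules) (p : ℕ) : Coh.HH X M p →+ Coh.HH ℙ ((Scheme.Modules.pushforward i).obj M) p :=
  pushH i.base ((QCohLib.toAbF X).obj M) p

theorem pushMap_bijective (M : X.Modules) (p : ℕ) : Function.Bijective (pushMap k n i M p) :=
  pushH_bijective i.base p _

theorem pushMap_natural {M N : X.Modules} (φ : M ⟶ N) (p : ℕ) (x : Coh.HH X M p) :
    pushMap k n i N p (CurvLib.hMap (k := k) φ p x) =
      CurvLib.hMap (k := k) ((Scheme.Modules.pushforward i).map φ) p (pushMap k n i M p x) :=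
  pushH_natural i.base ((QCohLib.toAbF X).map φ) p x

theorem pushMap_smul (hi : i ≫ CohB1.ProjSpace.toSpec n k = X ↘ Spec (CommRingCat.of k)) (M : X.Modules) (p : ℕ)
    (c : k) (x : Coh.HH X M p) : pushMap k n i M p (c • x) = c • pushMap k n i M p x := by
  rw [← PnDualLib.hMap_smulHom (k := k) M c p x, pushMap_natural, push_smulHom k n i hi]
  exact PnDualLib.hMap_smulHom _ c p _

/-- `Hᵖ(X, M) = Hᵖ(ℙ, ι_*M)`, linearly. -/
def pushEquiv (hi : i ≫ CohB1.ProjSpace.toSpec n k = X ↘ Spec (CommRingCat.of k)) (M : X.Modules) (p : ℕ) :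
    Coh.HH X M p ≃ₗ[k] Coh.HH ℙ ((Scheme.Modules.pushforward i).obj M) p :=
  LinearEquiv.ofBijective
    { toFun := pushMap k n i M p
      map_add' := map_add _
      map_smul' := pushMap_smul k n i hi M p } (pushMap_bijective k n i M p)

/-- **The dualizing property.** -/
theorem exists_trace_of_extSh (hi : i ≫ CohB1.ProjSpace.toSpec n k = X ↘ Spec (CommRingCat.of k)) (r : ℕ)
    (hr : r ≤ n)
    [ModSite.HasSheafHom (O := (CohB1.ProjSpace n k).sheaf) (pO i)]
    [HasInjectiveResolutions (ModSite.Mod (CohB1.ProjSpace n k).sheaf)]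
    (hlow : ∀ q < n - r, IsZero ((ModSite.extSh (O := (CohB1.ProjSpace n k).sheaf) (pO i) q).obj
      (Twist.twistProjSpace n k (-((n : ℤ) + 1)))))
    (ω : X.Modules)
    (hω : Nonempty ((Scheme.Modules.pushforward i).obj ω ≅
      (ModSite.extSh (O := (CohB1.ProjSpace n k).sheaf) (pO i) (n - r)).obj
        (Twist.twistProjSpace n k (-((n : ℤ) + 1))))) :
    ∃ t : Coh.HH X ω r →ₗ[k] k, ∀ F : X.Modules, Coh.IsCoh F → ∀ ψ : Coh.HH X F r →ₗ[k] k,
      ∃! φ : F ⟶ ω, ∀ x : Coh.HH X F r,
        ψ x = t (Sheaf.H.map ((SheafOfModules.toSheaf X.ringCatSheaf).map φ) r x) := by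
  haveI : HasExt.{u} (CohB1.ProjSpace n k).Modules := hasExt_of_enoughInjectives _
  haveI := PnCohLib.isLocallyNoetherian_projSpace (n := n) k
  obtain ⟨e, he⟩ := exists_universal_class i (n - r) hlow ω hω
  have hpω : Coh.IsCoh ((Scheme.Modules.pushforward i).obj ω) := by
    obtain ⟨g⟩ := hω
    exact QCohLib.isCoh_of_iso g.symm (isCoh_extSh_proj k n _ (isCoh_push_structure k n i) _)
  have hpn : r + (n - r) = n := by omega
  let E := fun (M : X.Modules) => pushEquiv k n i hi M r
  let t : Coh.HH X ω r →ₗ[k] k :=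
    { toFun := fun x => pairE k n _ hpn e (E ω x)
      map_add' := fun x y => by
        simp only [map_add]
        show PnDualLib.trace k n (cupE hpn _ e) = _
        rw [cupE_add_left, map_add]
        rfl
      map_smul' := fun c x => by
        simp only [map_smul, RingHom.id_apply]
        exact (dualAt k n (n - r) _ hpω r hpn).1 e c _ }
  refine ⟨t, fun F hF ψ => ?_⟩
  have hpF : Coh.IsCoh ((Scheme.Modules.pushforward i).obj F) := PnDualLib.isCoh_push' i hF
  obtain ⟨ξ, hξ, huniq⟩ := (dualAt k n (n - r) _ hpF r hpn).2 (ψ.comp (E F).symm.toLinearMap)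
  have key : ∀ (φ : F ⟶ ω) (x : Coh.HH X F r),
      t (Sheaf.H.map ((SheafOfModules.toSheaf X.ringCatSheaf).map φ) r x) =
        pairE k n _ hpn ((Abelian.Ext.mk₀ ((Scheme.Modules.pushforward i).map φ)).comp e (zero_add _)) (E F x) :=
    fun φ x => by
      rw [pairE_natural]
      exact congrArg (pairE k n _ hpn e) (pushMap_natural k n i φ r x)
  obtain ⟨φ, hφ⟩ := (he F).2 ξ
  refine ⟨φ, fun x => ?_, fun φ' hφ' => (he F).1 ?_⟩
  · rw [key, show (Abelian.Ext.mk₀ ((Scheme.Modules.pushforward i).map φ)).comp e (zero_add _) = ξ from hφ, hξ]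
    exact congrArg ψ ((E F).symm_apply_apply x).symm
  · refine Eq.trans ?_ hφ.symm
    refine huniq _ fun y => ?_
    obtain ⟨x, rfl⟩ := (E F).surjective y
    exact ((key φ' x).symm.trans (hφ' x).symm).trans (congrArg ψ ((E F).symm_apply_apply x)).symm

end Proj

end ExtShLib

namespace ExtShLib

variable (k : Type u) [Field k] (n : ℕ) {X : Scheme.{u}} (i : X ⟶ CohB1.ProjSpace n k) [IsClosedImmersion i]

theorem isZero_low_of_dim_le (r : ℕ) (hd : topologicalKrullDim X ≤ (r : WithBot ℕ∞))
    [ModSite.HasSheafHom (O := (CohB1.ProjSpace n k).sheaf) (pO i)]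
    [HasInjectiveResolutions (ModSite.Mod (CohB1.ProjSpace n k).sheaf)] (q : ℕ) (hq : q < n - r) :
    IsZero ((ModSite.extSh (O := (CohB1.ProjSpace n k).sheaf) (pO i) q).obj
      (Twist.twistProjSpace n k (-((n : ℤ) + 1)))) := by
  refine isZero_extSh_push_of_dim k n i q (lt_of_le_of_lt (add_le_add hd le_rfl) ?_)
  exact_mod_cast (show r + q < n by omega)

theorem dim_le_of_pure (r : ℕ)
    (heq : ∀ Z : Set ↥X, Z ∈ irreducibleComponents ↥X → topologicalKrullDim ↥Z = (r : WithBot ℕ∞)) :
    topologicalKrullDim X ≤ (r : WithBot ℕ∞) := by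
  rw [MiscFlat6.dim_eq_iSup_components]
  exact iSup₂_le fun Z hZ => (heq Z hZ).le

theorem isCoh_of_push_iso_extSh (ω : X.Modules) (c : ℕ)
    [ModSite.HasSheafHom (O := (CohB1.ProjSpace n k).sheaf) (pO i)]
    [HasInjectiveResolutions (ModSite.Mod (CohB1.ProjSpace n k).sheaf)]
    (g : (Scheme.Modules.pushforward i).obj ω ≅
      (ModSite.extSh (O := (CohB1.ProjSpace n k).sheaf) (pO i) c).obj
        (Twist.twistProjSpace n k (-((n : ℤ) + 1)))) : Coh.IsCoh ω := by
  haveI := PnCohLib.isLocallyNoetherian_projSpace (n := n) k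
  haveI : IsLocallyNoetherian X := LocallyOfFiniteType.isLocallyNoetherian i
  exact DevissLib.isCoh_of_isCoh_push i ω
    (QCohLib.isCoh_of_iso g.symm (isCoh_extSh_proj k n _ (isCoh_push_structure k n i) c))

end ExtShLib
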