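import Groth.Agent.ExtShLib.Resol
import Groth.Agent.ExtShLib.Nat

/-!
# Sheaf Ext from a complex resolving the first variable
-/

set_option autoImplicit false
set_option linter.unusedSectionVars false
set_option linter.style.haveILetI false
set_option backward.isDefEq.respectTransparency false
set_option backward.isDefEq.respectTransparency.types false
universe u

open CategoryTheory CategoryTheory.Limits AlgebraicGeometry TopologicalSpace Opposite
open CohCmpLib (homMod)
open PnDualLib (preMap homFun)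

noncomputable section

namespace ExtShLib

variable {X : Scheme.{u}} {F : X.Modules} (E : ChainComplex X.Modules ℕ) (π : E.X 0 ⟶ F)
  (hπ : E.d 1 0 ≫ π = 0)
  (hex0 : (ShortComplex.mk (E.d 1 0) π hπ).Exact) (hex : ∀ j : ℕ, E.ExactAt (j + 1))

/-- The target of the outgoing map in degree `j`. -/
def outObj (F : X.Modules) (E : ChainComplex X.Modules ℕ) : ℕ → X.Modules
  | 0 => F
  | j + 1 => E.X j

/-- The outgoing map in degree `j`. -/
def outMap : ∀ j, E.X j ⟶ outObj F E j
  | 0 => π
  | j + 1 => E.d (j + 1) j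

include hπ in
theorem d_outMap : ∀ j, E.d (j + 1) j ≫ outMap E π j = 0
  | 0 => hπ
  | _ + 1 => E.d_comp_d _ _ _

include hex0 hex in
theorem exact_outMap : ∀ j, (ShortComplex.mk (E.d (j + 1) j) (outMap E π j) (d_outMap E π hπ j)).Exact
  | 0 => hex0
  | j + 1 => (E.exactAt_iff' (j + 1 + 1) (j + 1) j (by simp) (by simp)).1 (hex j)

/-- The syzygies. -/
def syzObj : ℕ → X.Modules
  | 0 => F
  | j + 1 => kernel (outMap E π j)

/-- The projection to a syzygy. -/
def syzP : ∀ j, E.X j ⟶ syzObj E π j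
  | 0 => π
  | j + 1 => kernel.lift (outMap E π j) (E.d (j + 1) j) (d_outMap E π hπ j)

theorem kernel_syzP : ∀ j, kernel.ι (outMap E π j) ≫ syzP E π hπ j = 0
  | 0 => kernel.condition _
  | j + 1 => (cancel_mono (kernel.ι (outMap E π j))).1 (by
      rw [Category.assoc, zero_comp, syzP, kernel.lift_ι]
      exact kernel.condition _)

variable [Epi π]

include hex0 hex in
theorem syz_shortExact : ∀ j,
    (ShortComplex.mk (kernel.ι (outMap E π j)) (syzP E π hπ j) (kernel_syzP E π hπ j)).ShortExact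
  | 0 => ShortComplex.ShortExact.mk (mono_f := inferInstanceAs (Mono (kernel.ι _))) (epi_g := inferInstanceAs (Epi π))
      (ShortComplex.exact_kernel π)
  | j + 1 => by
    haveI : Epi (syzP E π hπ (j + 1)) := (exact_outMap E π hπ hex0 hex j).epi_kernelLift
    refine ShortComplex.ShortExact.mk (mono_f := inferInstanceAs (Mono (kernel.ι _))) (epi_g := this) ?_
    refine ShortComplex.exact_of_f_is_kernel _ ?_
    exact isKernelOfComp (f := syzP E π hπ (j + 1)) (kernel.ι (outMap E π j)) (outMap E π (j + 1))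
      (kernelIsKernel (outMap E π (j + 1))) (kernel_syzP E π hπ (j + 1)) (kernel.lift_ι _ _ _)

variable {G : X.Modules} (hE : ∀ j, FlatMod.IsFinLocFree (E.X j)) (I : InjectiveResolution G)

/-- The cut resolution. -/
def syzData : Syz F G I where
  E := E.X
  Z := syzObj E π
  zero := Iso.refl _
  i j := kernel.ι (outMap E π j)
  p := syzP E π hπ
  w := kernel_syzP E π hπ
  exact := syz_shortExact E π hπ hex0 hex
  acyclic j q := isZero_hcx_of_isFinLocFree I (hE j) q

theorem syzData_d (j : ℕ) : (syzData E π hπ hex0 hex hE I).d j = E.d (j + 1) j :=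
  kernel.lift_ι _ _ _

include hπ hex0 hex hE in
theorem nonempty_homology_extSh (G : X.Modules) [∀ j : ℕ, ModSite.HasSheafHom (O := X.sheaf) (E.X j)]
    [ModSite.HasSheafHom (O := X.sheaf) F] [HasInjectiveResolutions (ModSite.Mod X.sheaf)]
    (C : CochainComplex X.Modules ℕ) (e : ∀ j : ℕ, C.X j ≅ (ModSite.sheafHom (O := X.sheaf) (E.X j)).obj G)
    (hC : ∀ j : ℕ, C.d j (j + 1) ≫ (e (j + 1)).hom =
      (e j).hom ≫ (ExtSupp.sheafHomMap (O := X.sheaf) (E.d (j + 1) j)).app G) :
    ∀ i : ℕ, Nonempty (C.homology i ≅ (ModSite.extSh (O := X.sheaf) F i).obj G) := by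
  let I : InjectiveResolution G := injectiveResolution G
  let D := syzData E π hπ hex0 hex hE I
  let ε : ∀ j, C.X j ≅ homMod (E.X j) G := fun j => e j ≪≫ shApp (E.X j) G
  have hε : ∀ j, C.d j (j + 1) ≫ (ε (j + 1)).hom = (ε j).hom ≫ preMap (E.d (j + 1) j) G := fun j => by
    show C.d j (j + 1) ≫ (e (j + 1)).hom ≫ (shApp (E.X (j + 1)) G).hom =
      ((e j).hom ≫ (shApp (E.X j) G).hom) ≫ preMap (E.d (j + 1) j) G
    rw [← Category.assoc, Category.assoc, Category.assoc, ← shMap_natural, ← Category.assoc, hC, Category.assoc]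
    rfl
  intro i
  match i with
  | 0 =>
    obtain ⟨f⟩ := nonempty_extSh_zero I F
    haveI : IsIso (C.homologyπ 0) :=
      C.isIso_homologyπ ((ComplexShape.up ℕ).prev 0) 0 rfl (C.shape _ _ (by simp))
    refine ⟨(asIso (C.homologyπ 0)).symm ≪≫ ?_ ≪≫ f⟩
    let S : ShortComplex X.Modules := ShortComplex.mk (E.d 1 0) π hπ
    haveI : Epi S.g := inferInstanceAs (Epi π)
    haveI : Mono (preSeq S G).f := mono_preMap π G
    exact IsLimit.conePointsIsoOfNatIso (C.cyclesIsKernel 0 1 (by simp)) (preSeq_exact hex0 G).fIsKernel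
      (parallelPair.ext (ε 0) (ε 1) (hε 0) (by simp))
  | j + 1 =>
    obtain ⟨f⟩ := D.nonempty_extSh j
    let φ : C.sc' j (j + 1) (j + 1 + 1) ≅ D.homSeq j :=
      ShortComplex.isoMk (ε j) (ε (j + 1)) (ε (j + 1 + 1))
        (by
          show (ε j).hom ≫ preMap (D.d j) G = C.d j (j + 1) ≫ (ε (j + 1)).hom
          rw [syzData_d, hε])
        (by
          show (ε (j + 1)).hom ≫ preMap (D.d (j + 1)) G = C.d (j + 1) (j + 1 + 1) ≫ (ε (j + 1 + 1)).hom
          rw [syzData_d, hε])
    exact ⟨ShortComplex.homologyMapIso (C.isoSc' j (j + 1) (j + 1 + 1) (by simp) (by simp) ≪≫ φ) ≪≫ f⟩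

end ExtShLib
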