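import Groth.Agent.ExtShLib.Resol
import Groth.Agent.PnDualLib.Top
import Groth.Agent.PnDualLib.Local
import Groth.Agent.PnDualLib.Embed
import Groth.Agent.CurvLib.SupportVanish

/-!
# Vanishing of sheaf Ext on projective space and asymptotic vanishing of cohomology
-/

set_option autoImplicit false
set_option linter.unusedSectionVars false
set_option linter.style.haveILetI false
set_option backward.isDefEq.respectTransparency false
set_option backward.isDefEq.respectTransparency.types false
universe u

open CategoryTheory CategoryTheory.Limits AlgebraicGeometry TopologicalSpace Opposite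
open CohCmpLib (homMod)
open PnDualLib (mid syz cov incl dif dualSeq dualStart sm tw' isCoh_dual stalk_exact_iff stalk_start_iff preMap)

noncomputable section

namespace ExtShLib

theorem isZero_left_iff_exact {C : Type*} [Category C] [Abelian C] {K A B D : C} (f : K ⟶ A) (g : A ⟶ B)
    (w : f ≫ g = 0) [Mono f] (hex : (ShortComplex.mk f g w).Exact) (z : D ⟶ A) (hz : z = 0) (w' : z ≫ g = 0) :
    IsZero K ↔ (ShortComplex.mk z g w').Exact := by
  subst hz
  constructor
  · intro h
    rw [ShortComplex.exact_iff_mono _ rfl]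
    exact (ShortComplex.exact_iff_mono (ShortComplex.mk f g w) (h.eq_of_src _ _)).1 hex
  · intro h
    haveI : Mono g := (ShortComplex.exact_iff_mono _ rfl).1 h
    have hf : f = 0 := by rw [← cancel_mono g, w, zero_comp]
    exact IsZero.of_mono_eq_zero f hf

variable (k : Type u) [Field k] (n : ℕ)

theorem noetherianSpace_of_closedImm {X : Scheme.{u}} (ι : X ⟶ CohB1.ProjSpace n k) [IsClosedImmersion ι] :
    NoetherianSpace X :=
  haveI := PnDualLib.isNoetherian_projSpace k n
  ι.isClosedEmbedding.isInducing.noetherianSpace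

theorem exists_natDim_of_lt {X : Scheme.{u}} (_ι : X ⟶ CohB1.ProjSpace n k) [Nonempty X] (j : ℕ)
    (hj : topologicalKrullDim X + (j : WithBot ℕ∞) < (n : WithBot ℕ∞)) :
    ∃ d : ℕ, j ≤ n ∧ (topologicalKrullDim X ≤ (d : WithBot ℕ∞) ∧ d < n - j) := by
  haveI : Nonempty (IrreducibleCloseds X) :=
    ⟨⟨closure {Classical.arbitrary X}, isIrreducible_singleton.closure, isClosed_closure⟩⟩
  have h0 : (0 : WithBot ℕ∞) ≤ topologicalKrullDim X := Order.krullDim_nonneg
  obtain ⟨a, ha⟩ := WithBot.ne_bot_iff_exists.1 (ne_bot_of_le_ne_bot WithBot.zero_ne_bot h0)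
  rw [← ha] at hj
  cases a with
  | top =>
    have h1 : (⊤ : ℕ∞) + j < n := by exact_mod_cast hj
    exact absurd h1 (by simp)
  | coe a =>
    have h1 : a + j < n := by exact_mod_cast hj
    exact ⟨a, by omega, by rw [← ha]; exact le_rfl, by omega⟩

theorem isZero_push_of_isEmpty {X : Scheme.{u}} (ι : X ⟶ CohB1.ProjSpace n k) [IsClosedImmersion ι]
    [IsEmpty X] : IsZero ((Coh.push ι).obj (Coh.structureModule X)) :=
  Functor.map_isZero _ (KFlatLib.isZero_of_stalks fun x => isEmptyElim x)

variable (F : (CohB1.ProjSpace n k).Modules) (hF : Coh.IsCoh F)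

local notation "ℙ" => CohB1.ProjSpace n k
local notation "ω'" => Twist.twistProjSpace n k (-((n : ℤ) + 1))

/-- The resolution by sums of negative twists. -/
def projSyz {G : (CohB1.ProjSpace n k).Modules} (I : InjectiveResolution G) : Syz F G I where
  E := mid k n F hF
  Z j := (syz k n F hF j).1
  zero := Iso.refl _
  i := incl k n F hF
  p j := (cov k n F hF j).g
  w j := kernel.condition _
  exact := PnDualLib.syzSeq_shortExact k n F hF
  acyclic j q := isZero_hcx_of_isFinLocFree I (PnDualLib.isFinLocFree_mid k n F hF j) q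

theorem isZero_extSh_succ_iff_exact [ModSite.HasSheafHom (O := (CohB1.ProjSpace n k).sheaf) F]
    [HasInjectiveResolutions (ModSite.Mod (CohB1.ProjSpace n k).sheaf)] (q : ℕ) :
    IsZero ((ModSite.extSh (O := (CohB1.ProjSpace n k).sheaf) F (q + 1)).obj ω') ↔
      (dualSeq k n F hF q).Exact := by
  let I : InjectiveResolution (ω') := injectiveResolution _
  obtain ⟨e⟩ := (projSyz k n F hF I).nonempty_extSh q
  rw [ShortComplex.exact_iff_isZero_homology]
  exact ⟨fun h => h.of_iso e, fun h => h.of_iso e.symm⟩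

include hF in
theorem isZero_homMod_iff_exact : IsZero (homMod F ω') ↔ (dualStart k n F hF).Exact := by
  haveI : Epi (cov k n F hF 0).g := (cov k n F hF 0).epi
  haveI : Epi (cov k n F hF 1).g := (cov k n F hF 1).epi
  haveI := mono_preMap (cov k n F hF 0).g ω'
  haveI := mono_preMap (cov k n F hF 1).g ω'
  let I : InjectiveResolution (ω') := injectiveResolution _
  let D := projSyz k n F hF I
  have h0 : (preSeq (D.seq 0) ω').Exact :=
    haveI : Epi (D.seq 0).g := (cov k n F hF 0).epi
    preSeq_exact (D.exact 0).exact _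
  have hw : preMap (cov k n F hF 0).g ω' ≫ preMap (dif k n F hF 0) ω' = 0 := by
    rw [preMap_comp, show dif k n F hF 0 = (cov k n F hF 1).g ≫ incl k n F hF 0 from rfl, Category.assoc,
      show incl k n F hF 0 ≫ (cov k n F hF 0).g = 0 from kernel.condition _, comp_zero, preMap_zero']
  refine isZero_left_iff_exact (preMap (cov k n F hF 0).g ω') (preMap (dif k n F hF 0) ω') hw ?_ 0 rfl zero_comp
  refine ShortComplex.exact_of_f_is_kernel _ ?_
  refine KernelFork.IsLimit.ofι' _ _ (fun {T} t ht => ?_)
  haveI : Mono (preSeq (D.seq 0) ω').f := mono_preMap (cov k n F hF 0).g ω'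
  refine KernelFork.IsLimit.lift' h0.fIsKernel t ?_
  show t ≫ preMap (incl k n F hF 0) ω' = 0
  rw [← cancel_mono (preMap (cov k n F hF 1).g ω'), Category.assoc, zero_comp, preMap_comp]
  exact ht

include hF in
/-- `Extʲ(F, ω) = 0` iff `Hⁱ(F(-m))` vanishes for `m ≫ 0`, when `i + j = n`. -/
theorem isZero_extSh_iff [ModSite.HasSheafHom (O := (CohB1.ProjSpace n k).sheaf) F]
    [HasInjectiveResolutions (ModSite.Mod (CohB1.ProjSpace n k).sheaf)] (i j : ℕ) (hij : i + j = n) :
    IsZero ((ModSite.extSh (O := (CohB1.ProjSpace n k).sheaf) F j).obj ω') ↔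
      ∃ m₀ : ℕ, ∀ m : ℕ, m₀ ≤ m → Subsingleton (Coh.HH ℙ ((tw' k n (-(m : ℤ))).obj F) i) := by
  haveI := PnDualLib.isNoetherian_projSpace k n
  match j, hij with
  | 0, hij =>
    obtain rfl : i = n := by omega
    let I : InjectiveResolution (Twist.twistProjSpace i k (-((i : ℤ) + 1))) := injectiveResolution _
    obtain ⟨e⟩ := nonempty_extSh_zero I F
    have h₁ := isCoh_dual k i F hF 0
    have h₃ := isCoh_dual k i F hF 1
    rw [← e.isZero_iff, isZero_homMod_iff_exact k i F hF]
    constructor
    · intro hex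
      exact (PnDualLib.eventually_top_iff k i F hF).2 fun y _ =>
        (stalk_start_iff k i F hF y).1 (PnDualLib.stalk_exact_of_exact hex y)
    · intro h
      exact PnDualLib.exact_of_closed_stalks (dualStart k i F hF) h₁ h₁ h₃ fun y _ =>
        (stalk_start_iff k i F hF y).2 ((PnDualLib.eventually_top_iff k i F hF).1 h y)
  | q + 1, hij =>
    rw [isZero_extSh_succ_iff_exact k n F hF q]
    have h₁ := isCoh_dual k n F hF q
    have h₂ := isCoh_dual k n F hF (q + 1)
    have h₃ := isCoh_dual k n F hF (q + 1 + 1)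
    constructor
    · intro hex
      exact (PnDualLib.eventually_iff k n F hF i q hij).2 fun y _ =>
        (stalk_exact_iff k n F hF q y).1 (PnDualLib.stalk_exact_of_exact hex y)
    · intro h
      exact PnDualLib.exact_of_closed_stalks (dualSeq k n F hF q) h₁ h₂ h₃ fun y _ =>
        (stalk_exact_iff k n F hF q y).2 ((PnDualLib.eventually_iff k n F hF i q hij).1 h y)

variable {X : Scheme.{u}} (ι : X ⟶ CohB1.ProjSpace n k) [IsClosedImmersion ι]

theorem isCoh_push_structure : Coh.IsCoh ((Coh.push ι).obj (Coh.structureModule X)) := by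
  haveI := PnCohLib.isLocallyNoetherian_projSpace (n := n) k
  haveI : IsLocallyNoetherian X := LocallyOfFiniteType.isLocallyNoetherian ι
  exact PnDualLib.isCoh_push' ι (DevissLib.isCoh_structureModule X)

/-- The criterion for a closed subscheme. -/
theorem isZero_extSh_push_iff
    [ModSite.HasSheafHom (O := (CohB1.ProjSpace n k).sheaf) ((Scheme.Modules.pushforward ι).obj (Coh.structureModule X))]
    [HasInjectiveResolutions (ModSite.Mod (CohB1.ProjSpace n k).sheaf)] (i : ℕ) (hi : i ≤ n) :
    IsZero ((ModSite.extSh (O := (CohB1.ProjSpace n k).sheaf)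
        ((Scheme.Modules.pushforward ι).obj (Coh.structureModule X)) (n - i)).obj ω') ↔
      ∃ m₀ : ℤ, ∀ m : ℤ, m₀ ≤ m →
        Subsingleton (Coh.HH X ((Scheme.Modules.pullback ι).obj (Twist.twistProjSpace n k (-m))) i) := by
  haveI := PnCohLib.isLocallyNoetherian_projSpace (n := n) k
  haveI : IsLocallyNoetherian X := LocallyOfFiniteType.isLocallyNoetherian ι
  have hiff : ∀ t : ℤ, Subsingleton (Coh.HH X (PnDualLib.oX ι t) i) ↔
      Subsingleton (Coh.HH ℙ ((tw' k n t).obj ((Coh.push ι).obj (Coh.structureModule X))) i) := fun t =>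
    Iff.trans ⟨fun h => SerreVanLib.subsingleton_HH_of_iso (HilbPolyLib.unitLeft _) i h,
      fun h => SerreVanLib.subsingleton_HH_of_iso (HilbPolyLib.unitLeft _).symm i h⟩
      (PnDualLib.subsingleton_HH_iff ι (Coh.structureModule X) (DevissLib.isCoh_structureModule X) t i)
  refine (isZero_extSh_iff k n _ (isCoh_push_structure k n ι) i (n - i) (by omega)).trans ⟨?_, ?_⟩
  · rintro ⟨m₀, h⟩
    refine ⟨(m₀ : ℤ), fun m hm => ?_⟩
    obtain ⟨q, rfl⟩ := Int.eq_ofNat_of_zero_le (le_trans (Int.natCast_nonneg m₀) hm)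
    exact (hiff _).2 (h q (by exact_mod_cast hm))
  · rintro ⟨m₀, h⟩
    exact ⟨m₀.toNat, fun m hm => (hiff _).1 (h (m : ℤ) (by omega))⟩

theorem isZero_extSh_of_isZero {Y : Scheme.{u}} {M : Y.Modules} (hM : IsZero M) (G : Y.Modules)
    [ModSite.HasSheafHom (O := Y.sheaf) M] [HasInjectiveResolutions (ModSite.Mod Y.sheaf)] (q : ℕ) :
    IsZero ((ModSite.extSh (O := Y.sheaf) M q).obj G) := by
  let I : InjectiveResolution G := injectiveResolution G
  obtain ⟨e⟩ := nonempty_extSh_iso I M q
  refine IsZero.of_iso ?_ e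
  have h : IsZero ((hcx M I).X q) := by
    show IsZero (homMod M (I.cocomplex.X q))
    rw [IsZero.iff_id_eq_zero]
    exact (preMap_id M _).symm.trans ((congrArg (fun f => preMap f _) (hM.eq_of_src (𝟙 M) 0)).trans (preMap_zero' M M _))
  exact ((hcx M I).exactAt_iff' _ q _ rfl rfl).2 (ShortComplex.exact_of_isZero_X₂ _ h) |>.isZero_homology

/-- Vanishing below the codimension. -/
theorem isZero_extSh_push_of_dim
    [ModSite.HasSheafHom (O := (CohB1.ProjSpace n k).sheaf) ((Scheme.Modules.pushforward ι).obj (Coh.structureModule X))]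
    [HasInjectiveResolutions (ModSite.Mod (CohB1.ProjSpace n k).sheaf)] (j : ℕ)
    (hj : topologicalKrullDim X + (j : WithBot ℕ∞) < (n : WithBot ℕ∞)) :
    IsZero ((ModSite.extSh (O := (CohB1.ProjSpace n k).sheaf)
        ((Scheme.Modules.pushforward ι).obj (Coh.structureModule X)) j).obj ω') := by
  rcases isEmpty_or_nonempty X with hX | hX
  · exact isZero_extSh_of_isZero (isZero_push_of_isEmpty k n ι) _ j
  · obtain ⟨d, hd⟩ := exists_natDim_of_lt k n ι j hj
    obtain ⟨hjn, hd⟩ := hd
    haveI : NoetherianSpace X := noetherianSpace_of_closedImm k n ι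
    rw [show j = n - (n - j) by omega]
    refine (isZero_extSh_push_iff k n ι (n - j) (Nat.sub_le n j)).2 ⟨0, fun m _ => ?_⟩
    exact CurvLib.subsingleton_HH_of_dim_le _ hd.1 (n - j) hd.2

end ExtShLib
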