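import Groth.Agent.ExtShLib.Hcx

/-!
# Sheaf Ext from an acyclic resolution of the first variable
-/

set_option autoImplicit false
set_option linter.unusedSectionVars false
set_option linter.style.haveILetI false
set_option backward.isDefEq.respectTransparency false
set_option backward.isDefEq.respectTransparency.types false
universe u

open CategoryTheory CategoryTheory.Limits AlgebraicGeometry TopologicalSpace Opposite
open CohCmpLib (homMod)
open PnDualLib (preMap homFun)

noncomputable section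

namespace ExtShLib

variable {X : Scheme.{u}}

/-- A resolution by acyclic terms, cut into short exact sequences. -/
structure Syz (F : X.Modules) (G : X.Modules) (I : InjectiveResolution G) where
  E : ℕ → X.Modules
  Z : ℕ → X.Modules
  zero : Z 0 ≅ F
  i : ∀ j, Z (j + 1) ⟶ E j
  p : ∀ j, E j ⟶ Z j
  w : ∀ j, i j ≫ p j = 0
  exact : ∀ j, (ShortComplex.mk (i j) (p j) (w j)).ShortExact
  acyclic : ∀ j q, IsZero ((hcx (E j) I).homology (q + 1))

variable {F G : X.Modules} {I : InjectiveResolution G} (D : Syz F G I)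

/-- The short exact sequence. -/
abbrev Syz.seq (j : ℕ) : ShortComplex X.Modules := ShortComplex.mk (D.i j) (D.p j) (D.w j)

/-- The differential of the resolution. -/
abbrev Syz.d (j : ℕ) : D.E (j + 1) ⟶ D.E j := D.p (j + 1) ≫ D.i j

theorem Syz.d_comp (j : ℕ) : D.d (j + 1) ≫ D.d j = 0 := by
  show (D.p (j + 2) ≫ D.i (j + 1)) ≫ D.p (j + 1) ≫ D.i j = 0
  rw [Category.assoc, ← Category.assoc (D.i (j + 1)), D.w, zero_comp, comp_zero]

/-- Three consecutive terms of `Hom(E, G)`. -/
def Syz.homSeq (j : ℕ) : ShortComplex X.Modules :=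
  ShortComplex.mk (preMap (D.d j) G) (preMap (D.d (j + 1)) G)
    (by rw [preMap_comp, D.d_comp, preMap_zero'])

theorem Syz.isIso_δ (j q : ℕ) :
    IsIso ((seqCx_shortExact I (D.exact j)).δ (q + 1) (q + 2) (by simp)) :=
  (seqCx_shortExact I (D.exact j)).isIso_δ (q + 1) (q + 2) (by simp) (D.acyclic j q) (D.acyclic j (q + 1))

theorem Syz.nonempty_shift : ∀ m j : ℕ,
    Nonempty ((hcx (D.Z j) I).homology (m + 1) ≅ (hcx (D.Z (j + m)) I).homology 1)
  | 0, j => ⟨Iso.refl _⟩
  | m + 1, j => by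
    obtain ⟨e⟩ := Syz.nonempty_shift m (j + 1)
    haveI := D.isIso_δ j m
    rw [show j + (m + 1) = j + 1 + m by omega]
    exact ⟨(asIso ((seqCx_shortExact I (D.exact j)).δ (m + 1) (m + 2) rfl)).symm ≪≫ e⟩

/-- The connecting map out of `Hom(Z_{j+1}, G)`. -/
def Syz.δ₀ (j : ℕ) : homMod (D.Z (j + 1)) G ⟶ (hcx (D.Z j) I).homology 1 :=
  z0 I (D.Z (j + 1)) ≫ (seqCx_shortExact I (D.exact j)).δ 0 1 (by simp)

instance Syz.epi_δ₀ (j : ℕ) : Epi (D.δ₀ j) := by
  haveI : Epi ((seqCx_shortExact I (D.exact j)).δ 0 1 (by simp)) :=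
    ((seqCx_shortExact I (D.exact j)).homology_exact₁ 0 1 (by simp)).epi_f ((D.acyclic j 0).eq_of_tgt _ _)
  exact epi_comp _ _

theorem Syz.preMap_δ₀ (j : ℕ) : preMap (D.i j) G ≫ D.δ₀ j = 0 := by
  rw [Syz.δ₀, ← Category.assoc, ← z0_natural I (D.i j), Category.assoc,
    show HomologicalComplex.homologyMap (preCx I (D.i j)) 0 ≫ (seqCx_shortExact I (D.exact j)).δ 0 1 (by simp) = 0
      from (seqCx_shortExact I (D.exact j)).comp_δ 0 1 (by simp), comp_zero]

theorem Syz.δ₀_exact (j : ℕ) :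
    (ShortComplex.mk (preMap (D.i j) G) (D.δ₀ j) (D.preMap_δ₀ j)).Exact := by
  refine ShortComplex.exact_of_iso ?_ ((seqCx_shortExact I (D.exact j)).homology_exact₃ 0 1 (by simp))
  exact ShortComplex.isoMk (asIso (z0 I (D.E j))).symm (asIso (z0 I (D.Z (j + 1)))).symm (Iso.refl _)
    (by
      rw [Iso.symm_hom, Iso.symm_hom, Iso.inv_comp_eq, ← Category.assoc, Iso.eq_comp_inv]
      exact (z0_natural I (D.i j)).symm)
    (by
      rw [Iso.symm_hom, Iso.inv_comp_eq, Iso.refl_hom]
      exact (Category.comp_id _).symm)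

theorem Syz.nonempty_homSeq (j : ℕ) : Nonempty ((D.homSeq j).homology ≅ (hcx (D.Z j) I).homology 1) := by
  have hz : preMap (D.p (j + 1)) G ≫ preMap (D.d (j + 1)) G = 0 := by
    rw [preMap_comp, show D.d (j + 1) = D.p (j + 2) ≫ D.i (j + 1) from rfl, Category.assoc, D.w, comp_zero,
      preMap_zero']
  haveI : ∀ a, Epi (D.p a) := fun a => (D.exact a).epi_g
  haveI := mono_preMap (D.p (j + 1)) G
  haveI := mono_preMap (D.p (j + 2)) G
  have hk : IsLimit (KernelFork.ofι (f := (D.homSeq j).g) (preMap (D.p (j + 1)) G) hz) := by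
    have h1 : IsLimit (KernelFork.ofι (preMap (D.p (j + 1)) G) (preSeq (D.seq (j + 1)) G).zero) :=
      haveI : Mono (preSeq (D.seq (j + 1)) G).f := mono_preMap (D.p (j + 1)) G
      haveI : Epi (D.seq (j + 1)).g := (D.exact (j + 1)).epi_g
      (preSeq_exact (D.exact (j + 1)).exact G).fIsKernel
    refine KernelFork.IsLimit.ofι' _ _ (fun {T} t ht => KernelFork.IsLimit.lift' h1 t ?_)
    rw [← cancel_mono (preMap (D.p (j + 2)) G), Category.assoc, zero_comp]
    refine Eq.trans ?_ ht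
    exact congrArg (t ≫ ·) (preMap_comp (D.p (j + 2)) (D.i (j + 1)) G)
  have hfac : hk.lift (KernelFork.ofι (D.homSeq j).f (D.homSeq j).zero) = preMap (D.i j) G := by
    rw [← cancel_mono (preMap (D.p (j + 1)) G)]
    refine (Fork.IsLimit.lift_ι hk).trans ?_
    exact (preMap_comp (D.p (j + 1)) (D.i j) G).symm
  let h : (D.homSeq j).LeftHomologyData :=
    { K := homMod (D.Z (j + 1)) G
      H := (hcx (D.Z j) I).homology 1
      i := preMap (D.p (j + 1)) G
      π := D.δ₀ j
      wi := hz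
      hi := hk
      wπ := by rw [hfac]; exact D.preMap_δ₀ j
      hπ := by
        haveI : Epi (ShortComplex.mk (preMap (D.i j) G) (D.δ₀ j) (D.preMap_δ₀ j)).g := D.epi_δ₀ j
        refine CokernelCofork.IsColimit.ofπ' _ _ (fun {T} t ht => ?_)
        exact CokernelCofork.IsColimit.desc' (D.δ₀_exact j).gIsCokernel t ((congrArg (· ≫ t) hfac).symm.trans ht) }
  exact ⟨h.homologyIso⟩

theorem Syz.nonempty_extSh [ModSite.HasSheafHom (O := X.sheaf) F]
    [HasInjectiveResolutions (ModSite.Mod X.sheaf)] (q : ℕ) :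
    Nonempty ((D.homSeq q).homology ≅ (ModSite.extSh (O := X.sheaf) F (q + 1)).obj G) := by
  obtain ⟨e₁⟩ := nonempty_extSh_iso I F (q + 1)
  obtain ⟨e₂⟩ := D.nonempty_shift q 0
  rw [Nat.zero_add] at e₂
  obtain ⟨e₃⟩ := D.nonempty_homSeq q
  let e₀ : hcx (D.Z 0) I ≅ hcx F I :=
    { hom := preCx I D.zero.inv
      inv := preCx I D.zero.hom
      hom_inv_id := HomologicalComplex.hom_ext _ _ fun i => by
        show preMap D.zero.inv _ ≫ preMap D.zero.hom _ = 𝟙 _
        rw [preMap_comp, Iso.hom_inv_id]; exact preMap_id _ _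
      inv_hom_id := HomologicalComplex.hom_ext _ _ fun i => by
        show preMap D.zero.hom _ ≫ preMap D.zero.inv _ = 𝟙 _
        rw [preMap_comp, Iso.inv_hom_id]; exact preMap_id _ _ }
  exact ⟨e₃ ≪≫ e₂.symm ≪≫ (HomologicalComplex.homologyFunctor X.Modules _ (q + 1)).mapIso e₀ ≪≫ e₁.symm⟩

theorem nonempty_extSh_zero (I : InjectiveResolution G) (M : X.Modules) [ModSite.HasSheafHom (O := X.sheaf) M]
    [HasInjectiveResolutions (ModSite.Mod X.sheaf)] :
    Nonempty (homMod M G ≅ (ModSite.extSh (O := X.sheaf) M 0).obj G) := by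
  obtain ⟨e⟩ := nonempty_extSh_iso I M 0
  exact ⟨asIso (z0 I M) ≪≫ e.symm⟩

end ExtShLib
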